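import Groth.Agent.Torus37.Span
import Groth.Agent.SGA3a.NormalHopf

/-!
The subgroup of the Frobenius kernel landing in a commutative algebra of matrices commuting with the group.
-/

set_option autoImplicit false
set_option linter.unusedSectionVars false
set_option linter.style.haveILetI false

universe u

open scoped TensorProduct
open WithConv TensorProduct Groth.Agent.Dyn50

noncomputable section

namespace Groth.Agent.Torus37

variable {k : Type u} [Field k] {A : Type u} [CommRing A] [HopfAlgebra k A]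
variable {ι : Type} [Fintype ι] [DecidableEq ι] {c : ι → ι → A}

/-- Points are determined by their matrices when the entries generate. -/
theorem point_ext {R : Type u} [CommRing R] [Algebra k R]
    (hgen : Algebra.adjoin k (Set.range fun p : ι × ι => c p.1 p.2) = ⊤) {g h : WithConv (A →ₐ[k] R)}
    (e : Comod33.Mat.ev g.ofConv c = Comod33.Mat.ev h.ofConv c) : g = h := by
  refine WithConv.ofConv_injective (AlgHom.ext_of_adjoin_eq_top hgen ?_)
  rintro _ ⟨⟨i, j⟩, rfl⟩
  exact congrFun (congrFun e i) j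

theorem ev_pow (hc : Comod33.Mat.IsRep (k := k) c) {R : Type u} [CommRing R] [Algebra k R]
    (g : WithConv (A →ₐ[k] R)) : ∀ n : ℕ, Comod33.Mat.ev (g ^ n).ofConv c = Comod33.Mat.ev g.ofConv c ^ n
  | 0 => by rw [pow_zero, pow_zero, Comod33.Mat.ev_one hc]
  | n + 1 => by
    have h := Comod33.Mat.ev_mul hc (g ^ n).ofConv g.ofConv
    rw [toConv_ofConv, toConv_ofConv, ← pow_succ] at h
    rw [h, ev_pow hc g n, pow_succ]

/-- The hypotheses on a space of scalar matrices. -/
structure CentralAlg (k : Type u) [Field k] {A : Type u} [CommRing A] [HopfAlgebra k A] {ι : Type} [Fintype ι]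
    [DecidableEq ι] (c : ι → ι → A) (V : Submodule k (Matrix ι ι k)) : Prop where
  one_mem : (1 : Matrix ι ι k) ∈ V
  mul_mem : ∀ Z ∈ V, ∀ Z' ∈ V, Z * Z' ∈ V
  mul_comm : ∀ Z ∈ V, ∀ Z' ∈ V, Z * Z' = Z' * Z
  commute : ∀ Z ∈ V, Commute (gen c) (Z.map (algebraMap k A))

variable {V : Submodule k (Matrix ι ι k)}

theorem CentralAlg.commute_ev (hV : CentralAlg k c V) {R : Type u} [CommRing R] [Algebra k R] (g : A →ₐ[k] R)
    {G : Matrix ι ι R} (hG : InSpan V G) : Commute (Comod33.Mat.ev g c) G := by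
  refine hG.commute fun Z hZ => ?_
  show _ * _ = _ * _
  rw [← ev_gen g, ← map_algebraMap_map g Z, ← Matrix.map_mul, ← Matrix.map_mul, (hV.commute Z hZ).eq]

/-- The ideal of the subgroup. -/
def mIdeal (p : ℕ) (c : ι → ι → A) (V : Submodule k (Matrix ι ι k)) : Ideal A :=
  Ideal.span (Set.range (fun q : ι × ι => (ext' (projOn V) (gen c) - gen c) q.1 q.2) ∪
    {x | ∃ a : A, aug k A a = 0 ∧ x = a ^ p})

theorem kills_mIdeal_iff (p : ℕ) [Fact p.Prime] [CharP k p] {R : Type u} [CommRing R] [Algebra k R] (g : A →ₐ[k] R) :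
    (∀ a ∈ mIdeal p c V, g a = 0) ↔
      InSpan V (Comod33.Mat.ev g c) ∧ ∀ a, g a ^ p = algebraMap k R (aug k A a ^ p) := by
  have hsub : ∀ i j, g ((ext' (projOn V) (gen c) - gen c) i j) =
      (ext' (projOn V) (Comod33.Mat.ev g c) - Comod33.Mat.ev g c) i j := fun i j => by
    rw [← ev_gen g, ← map_ext'_alg, ← Matrix.map_sub _ (map_sub g)]
    rfl
  constructor
  · intro h
    refine ⟨inSpan_iff.2 ?_, fun a => ?_⟩
    · rw [← sub_eq_zero]
      ext i j
      rw [← hsub]
      exact h _ (Ideal.subset_span (Or.inl ⟨(i, j), rfl⟩))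
    · have h1 := h ((a - algebraMap k A (aug k A a)) ^ p) (Ideal.subset_span (Or.inr ⟨_, by simp, rfl⟩))
      rw [map_pow, map_sub, AlgHom.commutes] at h1
      rcases subsingleton_or_nontrivial R with hR | hR
      · exact Subsingleton.elim _ _
      haveI : CharP R p := charP_of_injective_algebraMap (algebraMap k R).injective p
      rw [sub_pow_char, sub_eq_zero] at h1
      rw [h1, map_pow]
  · rintro ⟨h1, h2⟩ a ha
    refine Submodule.span_induction (fun x hx => ?_) (map_zero g) (fun x y _ _ hx hy => by rw [map_add, hx, hy, add_zero])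
      (fun r x _ hx => by rw [smul_eq_mul, map_mul, hx, mul_zero]) ha
    rcases hx with ⟨⟨i, j⟩, rfl⟩ | ⟨b, hb, rfl⟩
    · rw [hsub, inSpan_iff.1 h1, sub_self]; rfl
    · rw [map_pow, h2, hb, zero_pow (Fact.out : p.Prime).ne_zero, map_zero]

/-- A point of the subgroup is killed by `p`. -/
theorem pow_char_eq_one (hc : Comod33.Mat.IsRep (k := k) c)
    (hgen : Algebra.adjoin k (Set.range fun p : ι × ι => c p.1 p.2) = ⊤) (hV : CentralAlg k c V)
    (p : ℕ) [Fact p.Prime] [CharP k p] {R : Type u} [CommRing R] [Algebra k R] {g : WithConv (A →ₐ[k] R)}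
    (h : InSpan V (Comod33.Mat.ev g.ofConv c) ∧ ∀ a, g.ofConv a ^ p = algebraMap k R (aug k A a ^ p)) :
    g ^ p = 1 := by
  refine point_ext hgen ?_
  rw [ev_pow hc, Comod33.Mat.ev_one hc]
  have hN : InSpan V (Comod33.Mat.ev g.ofConv c - 1) := Submodule.sub_mem _ h.1 (inSpan_one hV.one_mem)
  have h0 := InSpan.pow_char_eq_zero p hV.mul_comm hN fun i j => by
    rcases subsingleton_or_nontrivial R with hR | hR
    · exact Subsingleton.elim _ _
    haveI : CharP R p := charP_of_injective_algebraMap (algebraMap k R).injective p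
    rw [Matrix.sub_apply, sub_pow_char, Comod33.Mat.ev_apply, h.2, Matrix.one_apply,
      show aug k A (c i j) = _ from hc.counit i j]
    split_ifs <;> simp [zero_pow (Fact.out : p.Prime).ne_zero]
  have := add_pow_char_matrix (k := k) p (Commute.one_right (Comod33.Mat.ev g.ofConv c - 1))
  rw [sub_add_cancel, h0, one_pow, zero_add] at this
  exact this

/-- The subgroup on points. -/
def mPts (hc : Comod33.Mat.IsRep (k := k) c) (hgen : Algebra.adjoin k (Set.range fun p : ι × ι => c p.1 p.2) = ⊤)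
    (hV : CentralAlg k c V) (p : ℕ) [Fact p.Prime] [CharP k p] (R : Type u) [CommRing R] [Algebra k R] :
    Subgroup (WithConv (A →ₐ[k] R)) where
  carrier := {g | InSpan V (Comod33.Mat.ev g.ofConv c) ∧ ∀ a, g.ofConv a ^ p = algebraMap k R (aug k A a ^ p)}
  one_mem' := by
    refine ⟨?_, fun a => ?_⟩
    · rw [Comod33.Mat.ev_one hc]; exact inSpan_one hV.one_mem
    · rw [show (1 : WithConv (A →ₐ[k] R)).ofConv a = algebraMap k R (aug k A a) from rfl, map_pow]
  mul_mem' {g h} hg hh := by
    refine ⟨?_, fun a => ?_⟩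
    · have e := Comod33.Mat.ev_mul hc g.ofConv h.ofConv
      rw [toConv_ofConv, toConv_ofConv] at e
      rw [e]
      exact hg.1.mul hV.mul_mem hh.1
    · rcases subsingleton_or_nontrivial R with hR | hR
      · exact Subsingleton.elim _ _
      haveI : CharP R p := charP_of_injective_algebraMap (algebraMap k R).injective p
      have key : ∀ z : A ⊗[k] A, (Algebra.TensorProduct.lift g.ofConv h.ofConv fun _ _ => Commute.all _ _) z ^ p =
          algebraMap k R ((Algebra.TensorProduct.lift (aug k A) (aug k A) fun _ _ => Commute.all _ _) z ^ p) := by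
        intro z
        induction z with
        | zero => simp [zero_pow (Fact.out : p.Prime).ne_zero]
        | add x y hx hy => simp only [map_add, add_pow_char, hx, hy]
        | tmul x y => simp only [Algebra.TensorProduct.lift_tmul, mul_pow, map_mul, hg.2, hh.2]
      have h1 := key (CoalgebraStruct.comul (R := k) a)
      have h2 : (1 * 1 : WithConv (A →ₐ[k] k)).ofConv a = aug k A a := by rw [mul_one]; rfl
      rw [AlgHom.convMul_apply] at h2 ⊢
      refine h1.trans ?_
      rw [← h2]
      rfl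
  inv_mem' {g} hg := by
    refine ⟨?_, fun a => ?_⟩
    · have hp : g ^ p = 1 := pow_char_eq_one hc hgen hV p hg
      obtain ⟨m, hm⟩ := Nat.exists_eq_succ_of_ne_zero (Fact.out : p.Prime).ne_zero
      rw [show g⁻¹ = g ^ m from inv_eq_of_mul_eq_one_right (by rw [← pow_succ', ← hp, hm]), ev_pow hc]
      exact InSpan.pow hV.one_mem hV.mul_mem hg.1 m
    · show (g.ofConv.comp (HopfAlgebra.antipodeAlgHom k A)) a ^ p = _
      rw [AlgHom.comp_apply, hg.2]
      congr 2
      exact HopfAlgebra.counit_antipode a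

theorem isHopfIdeal_mIdeal (hc : Comod33.Mat.IsRep (k := k) c)
    (hgen : Algebra.adjoin k (Set.range fun p : ι × ι => c p.1 p.2) = ⊤) (hV : CentralAlg k c V)
    (p : ℕ) [Fact p.Prime] [CharP k p] : (mIdeal p c V).IsHopfIdeal k :=
  isHopfIdeal_of_subgroup _ (fun R _ _ => mPts hc hgen hV p R) fun R _ _ g => kills_mIdeal_iff p g

/-- The subgroup is central. -/
theorem commute_of_kills (hc : Comod33.Mat.IsRep (k := k) c)
    (hgen : Algebra.adjoin k (Set.range fun p : ι × ι => c p.1 p.2) = ⊤) (hV : CentralAlg k c V)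
    (p : ℕ) [Fact p.Prime] [CharP k p] {R : Type u} [CommRing R] [Algebra k R] {g : WithConv (A →ₐ[k] R)}
    (hg : ∀ a ∈ mIdeal p c V, g.ofConv a = 0) (h : WithConv (A →ₐ[k] R)) : Commute h g := by
  refine point_ext hgen ?_
  have e1 := Comod33.Mat.ev_mul hc h.ofConv g.ofConv
  have e2 := Comod33.Mat.ev_mul hc g.ofConv h.ofConv
  rw [toConv_ofConv, toConv_ofConv] at e1 e2
  rw [e1, e2]
  exact (hV.commute_ev h.ofConv ((kills_mIdeal_iff p g.ofConv).1 hg).1).eq

theorem isNormal_mIdeal (hc : Comod33.Mat.IsRep (k := k) c)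
    (hgen : Algebra.adjoin k (Set.range fun p : ι × ι => c p.1 p.2) = ⊤) (hV : CentralAlg k c V)
    (p : ℕ) [Fact p.Prime] [CharP k p] : SGA3.IsNormalHopfIdeal k A (mIdeal p c V) := by
  intro R _ _ g h hh a ha
  rw [← WithConv.ofConv_toConv (Dyn.conv3 k A _ _ _), SGA3a.NormalHopf.toConv_conv3,
    ← SGA3a.NormalHopf.inv_ofConv, toConv_ofConv,
    (commute_of_kills hc hgen hV p (g := toConv h) hh (toConv g)).eq, mul_inv_cancel_right]
  exact hh a ha

end Groth.Agent.Torus37
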