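import Groth.Agent.Torus37.Quot
import Groth.Agent.AlgGrp33.TorusBridge
import Groth.Agent.AlgGrp33.IsogSub
import Groth.Agent.AlgGrp79.TorusPts
import Groth.Agent.Comod33.Connected
import Mathlib.Data.Nat.Choose.Dvd

/-!
Lifting tori through a quotient by a central subgroup of exponent `p`: the power `x ↦ x ^ p ^ 2`.
-/

set_option autoImplicit false
set_option linter.unusedSectionVars false
set_option linter.style.haveILetI false

universe u

open CategoryTheory AlgebraicGeometry
open scoped TensorProduct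
open WithConv TensorProduct Groth.Agent.Dyn50 Groth.Agent.GMod80

noncomputable section

namespace Groth.Agent.Torus37

variable (k : Type u) [Field k] (A : Type u) [CommRing A] [HopfAlgebra k A]

/-- A nontrivial homomorphism from a torus. -/
def HasTorus : Prop :=
  ∃ (B : Type u) (_ : CommRing B) (_ : HopfAlgebra k B) (F : A →ₐc[k] B),
    Algebra.FiniteType k B ∧ Red.IsTorus (sp k B) ∧ IsDomain (AlgebraicClosure k ⊗[k] B) ∧
      (toConv (F : A →ₐ[k] B) : WithConv (A →ₐ[k] B)) ≠ 1

variable {k A}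

/-- Products of powers when the commutator is central. -/
theorem mul_pow_of_central {G : Type*} [Group G] (x y c : G) (hc : y * x = x * y * c) (hcc : ∀ z : G, Commute z c) :
    ∀ n : ℕ, (x * y) ^ n = x ^ n * y ^ n * c ^ n.choose 2 := by
  have hyx : ∀ n : ℕ, y ^ n * x = x * y ^ n * c ^ n := by
    intro n
    induction n with
    | zero => simp
    | succ n ih =>
      calc y ^ (n + 1) * x = y * (y ^ n * x) := by rw [pow_succ', _root_.mul_assoc]
        _ = y * x * (y ^ n * c ^ n) := by rw [ih]; group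
        _ = x * y * (c * y ^ n) * c ^ n := by rw [hc]; group
        _ = x * y * (y ^ n * c) * c ^ n := by rw [(hcc (y ^ n)).eq]
        _ = x * y ^ (n + 1) * c ^ (n + 1) := by rw [pow_succ' y, pow_succ' c]; group
  intro n
  induction n with
  | zero => simp
  | succ n ih =>
    have h2 : (n + 1).choose 2 = n.choose 2 + n := by
      rw [Nat.choose_succ_succ', Nat.choose_one_right, add_comm]
    calc (x * y) ^ (n + 1) = x ^ n * y ^ n * (c ^ n.choose 2 * x) * y := by rw [pow_succ, ih]; group
      _ = x ^ n * y ^ n * (x * c ^ n.choose 2) * y := by rw [((hcc x).pow_right _).eq]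
      _ = x ^ n * (y ^ n * x) * (c ^ n.choose 2 * y) := by group
      _ = x ^ n * (x * y ^ n * c ^ n) * (y * c ^ n.choose 2) := by rw [hyx, ((hcc y).pow_right _).eq]
      _ = x ^ n * x * y ^ n * (c ^ n * y) * c ^ n.choose 2 := by group
      _ = x ^ n * x * y ^ n * (y * c ^ n) * c ^ n.choose 2 := by rw [((hcc y).pow_right n).eq]
      _ = x ^ (n + 1) * y ^ (n + 1) * c ^ (n + 1).choose 2 := by
        rw [h2, pow_succ x n, pow_succ y n, add_comm (n.choose 2) n, pow_add c n]
        group

variable {A' : Type u} [CommRing A'] [HopfAlgebra k A']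

/-- Points of the quotient lift after an injective extension. -/
theorem exists_lift_injective (j : A' →ₐc[k] A) (hj : (j : A' →+* A).FaithfullyFlat) {R : Type u} [CommRing R]
    [Algebra k R] (s : A' →ₐ[k] R) :
    ∃ (R' : Type u) (_ : CommRing R') (_ : Algebra k R') (ι : R →ₐ[k] R') (x : A →ₐ[k] R'),
      Function.Injective ι ∧ x.comp (j : A' →ₐ[k] A) = ι.comp s := by
  letI : Algebra A' A := (j : A' →+* A).toAlgebra
  letI : Algebra A' R := (s : A' →+* R).toAlgebra
  haveI : IsScalarTower k A' A := IsScalarTower.of_algebraMap_eq fun r => ((j : A' →ₐ[k] A).commutes r).symm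
  haveI : IsScalarTower k A' R := IsScalarTower.of_algebraMap_eq fun r => (s.commutes r).symm
  haveI : Module.FaithfullyFlat A' A := hj
  refine ⟨R ⊗[A'] A, inferInstance, inferInstance, Algebra.TensorProduct.includeLeft,
    (Algebra.TensorProduct.includeRight : A →ₐ[A'] R ⊗[A'] A).restrictScalars k, ?_, ?_⟩
  · intro r r' e
    refine Module.FaithfullyFlat.tensorProduct_mk_injective (A := A') (B := A) R ?_
    exact congrArg (TensorProduct.comm A' R A) e
  · refine AlgHom.ext fun a => ?_
    show (1 : R) ⊗ₜ[A'] (algebraMap A' A a) = algebraMap A' R a ⊗ₜ[A'] (1 : A)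
    rw [Algebra.algebraMap_eq_smul_one, Algebra.algebraMap_eq_smul_one, TensorProduct.smul_tmul]

variable (p : ℕ) [hp : Fact p.Prime]

/-- Tori lift through a central quotient of exponent `p`. -/
theorem hasTorus_of_quotient (I : Ideal A) (j : A' →ₐc[k] A) (hj : (j : A' →+* A).FaithfullyFlat)
    (hinj : Function.Injective j) (hrange : Set.range j = (SGA3a.NormalHopf.coinv (k := k) I : Set A))
    (hkills : ∀ (R : Type u) [CommRing R] [Algebra k R] (g : A →ₐ[k] R),
      (∀ a ∈ I, g a = 0) ↔ g.comp (j : A' →ₐ[k] A) = (1 : WithConv (A' →ₐ[k] R)).ofConv)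
    (hcen : ∀ (R : Type u) [CommRing R] [Algebra k R] (g h : WithConv (A →ₐ[k] R)),
      (∀ a ∈ I, g.ofConv a = 0) → Commute h g ∧ g ^ p = 1)
    (h : HasTorus k A') : HasTorus k A := by
  classical
  obtain ⟨B, _, _, F, hBfin, hBT, hBdom, hF⟩ := h
  haveI := hBfin
  haveI := hBdom
  haveI : IsMonHom (Iso.refl (sp k B)).hom := inferInstanceAs (IsMonHom (𝟙 (sp k B)))
  have hdiag : HopfRep.IsDiagonalizable (AlgebraicClosure k) (AlgebraicClosure k ⊗[k] B) :=
    AlgGrp33.isDiagonalizable_of_isTorus (Iso.refl (sp k B)) hBT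
  haveI := Comod33.Diag.isCocomm_of_isDiagonalizable hdiag
  haveI : Coalgebra.IsCocomm k B := Comod33.Diag.isCocomm_descend (K := AlgebraicClosure k)
  let q := p ^ 2
  have hq : p ∣ q := dvd_pow_self p two_ne_zero
  have hq2 : p ∣ q.choose 2 := hp.out.dvd_choose_pow two_ne_zero (by
    have := hp.out.two_le
    show 2 ≠ p ^ 2
    nlinarith)
  -- the power map
  let Q : A →ₐ[k] A := ((toConv (AlgHom.id k A)) ^ q).ofConv
  have hQ : ∀ (R : Type u) [CommRing R] [Algebra k R] (g : WithConv (A →ₐ[k] R)) (a : A),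
      g.ofConv (Q a) = (g ^ q).ofConv a := by
    intro R _ _ g a
    let post : WithConv (A →ₐ[k] A) →* WithConv (A →ₐ[k] R) :=
      MonoidHom.mk' (fun x => toConv (g.ofConv.comp x.ofConv))
        fun x y => congrArg toConv (AlgHom.comp_convMul_distrib g.ofConv x y)
    have h1 := map_pow post (toConv (AlgHom.id k A)) q
    rw [show post (toConv (AlgHom.id k A)) = g from WithConv.ofConv_injective (AlgHom.ext fun _ => rfl)] at h1
    exact DFunLike.congr_fun (congrArg WithConv.ofConv h1) a
  have hQc : ∀ a, Q a ∈ Set.range j := by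
    intro a
    rw [hrange]
    intro R _ _ g h hh
    obtain ⟨hc1, hc2⟩ := hcen R (toConv h) (toConv g) hh
    show (toConv g * toConv h).ofConv (Q a) = (toConv g).ofConv (Q a)
    rw [hQ, hQ, hc1.mul_pow]
    obtain ⟨t, ht⟩ := hq
    rw [show toConv h ^ q = 1 by rw [ht, pow_mul, hc2, one_pow], _root_.mul_one]
  choose G hG using hQc
  have hG' : ∀ (x : A) (y : A'), (j : A' →ₐ[k] A) y = Q x → G x = y := fun x y h => hinj ((hG x).trans h.symm)
  let Ga : A →ₐ[k] A' :=
    { toFun := G
      map_one' := hG' _ _ (by rw [map_one, map_one])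
      map_zero' := hG' _ _ (by rw [map_zero, map_zero])
      map_add' := fun x y => hG' _ _ (by rw [map_add, map_add]; exact congrArg₂ _ (hG x) (hG y))
      map_mul' := fun x y => hG' _ _ (by rw [map_mul, map_mul]; exact congrArg₂ _ (hG x) (hG y))
      commutes' := fun r => hG' _ _ (by rw [AlgHom.commutes, AlgHom.commutes]) }
  let H : A →ₐ[k] B := (F : A' →ₐ[k] B).comp Ga
  have hjG : (j : A' →ₐ[k] A).comp Ga = Q := AlgHom.ext hG
  -- multiplicativity
  have hmul : (Algebra.TensorProduct.map H H).comp (Bialgebra.comulAlgHom k A) =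
      (Bialgebra.comulAlgHom k B).comp H := by
    let R := B ⊗[k] B
    let b₁ : WithConv (B →ₐ[k] R) := toConv Algebra.TensorProduct.includeLeft
    let b₂ : WithConv (B →ₐ[k] R) := toConv (Algebra.TensorProduct.includeRight : B →ₐ[k] R)
    let pc : WithConv (B →ₐ[k] R) →* WithConv (A' →ₐ[k] R) :=
      MonoidHom.mk' (fun x => toConv (x.ofConv.comp (F : A' →ₐ[k] B)))
        fun x y => congrArg toConv (AlgHom.convMul_comp_bialgHom_distrib x y F)
    let s₁ := pc b₁
    let s₂ := pc b₂
    have hs : Commute s₁ s₂ := by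
      show pc b₁ * pc b₂ = pc b₂ * pc b₁
      rw [← map_mul, ← map_mul, _root_.mul_comm b₁ b₂]
    obtain ⟨R₁, _, _, ι₁, x₁, hι₁, hx₁⟩ := exists_lift_injective j hj s₁.ofConv
    obtain ⟨R₂, _, _, ι₂, x₂, hι₂, hx₂⟩ := exists_lift_injective j hj (ι₁.comp s₂.ofConv)
    let ι := ι₂.comp ι₁
    let X₁ : WithConv (A →ₐ[k] R₂) := toConv (ι₂.comp x₁)
    let X₂ : WithConv (A →ₐ[k] R₂) := toConv x₂
    let jj : WithConv (A →ₐ[k] R₂) →* WithConv (A' →ₐ[k] R₂) :=
      MonoidHom.mk' (fun x => toConv (x.ofConv.comp (j : A' →ₐ[k] A)))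
        fun x y => congrArg toConv (AlgHom.convMul_comp_bialgHom_distrib x y j)
    let push : WithConv (A' →ₐ[k] R) →* WithConv (A' →ₐ[k] R₂) :=
      MonoidHom.mk' (fun x => toConv (ι.comp x.ofConv))
        fun x y => congrArg toConv (AlgHom.comp_convMul_distrib ι x y)
    have hj₁ : jj X₁ = push s₁ := congrArg toConv (by
      show (ι₂.comp x₁).comp (j : A' →ₐ[k] A) = ι.comp s₁.ofConv
      rw [AlgHom.comp_assoc, hx₁]
      rfl)
    have hj₂ : jj X₂ = push s₂ := congrArg toConv hx₂
    let c := (X₁ * X₂)⁻¹ * (X₂ * X₁)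
    have hc : X₂ * X₁ = X₁ * X₂ * c := (mul_inv_cancel_left _ _).symm
    have hck : ∀ a ∈ I, c.ofConv a = 0 := (hkills R₂ c.ofConv).2 (by
      have h1 : jj c = 1 := by
        rw [map_mul, map_inv, map_mul, map_mul, hj₁, hj₂, (hs.map push).eq, inv_mul_cancel]
      exact congrArg WithConv.ofConv h1)
    have hcc : ∀ z, Commute z c := fun z => (hcen R₂ c z hck).1
    have hpow : (X₁ * X₂) ^ q = X₁ ^ q * X₂ ^ q := by
      obtain ⟨t, ht⟩ := hq2
      rw [mul_pow_of_central X₁ X₂ c hc hcc, ht, pow_mul, (hcen R₂ c 1 hck).2, one_pow, _root_.mul_one]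
    -- transport to the quotient
    have hkey : ∀ (X : WithConv (A →ₐ[k] R₂)) (a : A), (jj X).ofConv (Ga a) = (X ^ q).ofConv a := fun X a => by
      rw [← hQ R₂ X a]
      exact congrArg X.ofConv (hG a)
    have h12 : push (toConv ((s₁ * s₂).ofConv)) = jj (X₁ * X₂) := by
      rw [toConv_ofConv, map_mul, map_mul, hj₁, hj₂]
    have key : (toConv (s₁.ofConv.comp Ga) * toConv (s₂.ofConv.comp Ga) : WithConv (A →ₐ[k] R)) =
        toConv ((s₁ * s₂).ofConv.comp Ga) := by
      refine WithConv.ofConv_injective (AlgHom.ext fun a => (hι₂.comp hι₁) ?_)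
      show ι ((toConv (s₁.ofConv.comp Ga) * toConv (s₂.ofConv.comp Ga) : WithConv (A →ₐ[k] R)).ofConv a) =
        (push (toConv ((s₁ * s₂).ofConv))).ofConv (Ga a)
      rw [h12, hkey, hpow, ← AlgHom.comp_apply, AlgHom.comp_convMul_distrib]
      congr 2
      · congr 1
        · exact WithConv.ofConv_injective (AlgHom.ext fun b =>
            (congrArg (fun y : WithConv (A' →ₐ[k] R₂) => y.ofConv (Ga b)) hj₁.symm).trans (hkey X₁ b))
        · exact WithConv.ofConv_injective (AlgHom.ext fun b =>
            (congrArg (fun y : WithConv (A' →ₐ[k] R₂) => y.ofConv (Ga b)) hj₂.symm).trans (hkey X₂ b))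
    have h12' : (s₁ * s₂).ofConv = (Bialgebra.comulAlgHom k B).comp (F : A' →ₐ[k] B) := by
      show (pc b₁ * pc b₂).ofConv = _
      rw [← map_mul]
      show (b₁ * b₂).ofConv.comp (F : A' →ₐ[k] B) = _
      rw [← GMod80.comulAlgHom_eq_lr]
    rw [AlgHom.comp_assoc (Bialgebra.comulAlgHom k B) (F : A' →ₐ[k] B) Ga |>.symm, ← h12']
    refine Eq.trans ?_ (congrArg WithConv.ofConv key)
    refine AlgHom.ext fun a => ?_
    rw [AlgHom.convMul_apply]
    show Algebra.TensorProduct.map H H (CoalgebraStruct.comul (R := k) a) = _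
    generalize CoalgebraStruct.comul (R := k) a = z
    induction z with
    | zero => simp
    | add u v hu hv => simp only [map_add, hu, hv]
    | tmul u v =>
      show F (Ga u) ⊗ₜ[k] F (Ga v) = (F (Ga u) ⊗ₜ[k] (1 : B)) * ((1 : B) ⊗ₜ[k] F (Ga v))
      rw [Algebra.TensorProduct.tmul_mul_tmul, _root_.mul_one, _root_.one_mul]
  have hcou : (Bialgebra.counitAlgHom k B).comp H = Bialgebra.counitAlgHom k A := by
    refine AlgHom.ext fun a => ?_
    show CoalgebraStruct.counit (R := k) (F (Ga a)) = _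
    rw [CoalgHomClass.counit_comp_apply, ← CoalgHomClass.counit_comp_apply j, show j (Ga a) = Q a from hG a]
    have := hQ k 1 a
    rw [one_pow] at this
    exact this
  refine ⟨B, inferInstance, inferInstance, BialgHom.ofAlgHom H hcou hmul, hBfin, hBT, hBdom, fun h1 => hF ?_⟩
  -- the composite with the quotient is a power
  let FF : WithConv (A' →ₐ[k] B) := toConv (F : A' →ₐ[k] B)
  have hFq : FF ^ q = 1 := by
    let pj : WithConv (A →ₐ[k] A) →* WithConv (A' →ₐ[k] A) :=
      MonoidHom.mk' (fun x => toConv (x.ofConv.comp (j : A' →ₐ[k] A)))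
        fun x y => congrArg toConv (AlgHom.convMul_comp_bialgHom_distrib x y j)
    let post : WithConv (A' →ₐ[k] A') →* WithConv (A' →ₐ[k] A) :=
      MonoidHom.mk' (fun x => toConv ((j : A' →ₐ[k] A).comp x.ofConv))
        fun x y => congrArg toConv (AlgHom.comp_convMul_distrib (j : A' →ₐ[k] A) x y)
    let postF : WithConv (A' →ₐ[k] A') →* WithConv (A' →ₐ[k] B) :=
      MonoidHom.mk' (fun x => toConv ((F : A' →ₐ[k] B).comp x.ofConv))
        fun x y => congrArg toConv (AlgHom.comp_convMul_distrib (F : A' →ₐ[k] B) x y)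
    have hGj : Ga.comp (j : A' →ₐ[k] A) = (toConv (AlgHom.id k A') ^ q).ofConv := by
      refine AlgHom.ext fun y => hinj ?_
      show j (Ga (j y)) = (post (toConv (AlgHom.id k A') ^ q)).ofConv y
      rw [map_pow, show post (toConv (AlgHom.id k A')) = pj (toConv (AlgHom.id k A)) from rfl, ← map_pow]
      exact hG (j y)
    have h2 : postF (toConv (AlgHom.id k A') ^ q) = 1 := by
      show toConv ((F : A' →ₐ[k] B).comp (toConv (AlgHom.id k A') ^ q).ofConv) = 1
      rw [← hGj, ← AlgHom.comp_assoc]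
      refine WithConv.ofConv_injective (AlgHom.ext fun y => ?_)
      have h3 := DFunLike.congr_fun (congrArg WithConv.ofConv h1) (j y)
      refine h3.trans ?_
      show algebraMap k B _ = algebraMap k B _
      exact congrArg _ (CoalgHomClass.counit_comp_apply j y)
    rw [map_pow] at h2
    exact h2
  -- tori are divisible
  let L := AlgebraicClosure k
  refine WithConv.ofConv_injective (AlgHom.ext fun a => ?_)
  show F a = algebraMap k B (CoalgebraStruct.counit (R := k) a)
  refine Algebra.TensorProduct.includeRight_injective (A := L) (R := k) (algebraMap k L).injective ?_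
  rw [← sub_eq_zero]
  refine Comod33.Conn.eq_zero_of_forall_point (k := L) fun Y => ?_
  obtain ⟨Z, hZ⟩ := AlgGrp79.TorusPts.exists_root hdiag (pow_pos hp.out.pos 2 : 0 < q) Y
  let res : WithConv (L ⊗[k] B →ₐ[L] L) → WithConv (B →ₐ[k] L) := fun y =>
    toConv ((y.ofConv.restrictScalars k).comp Algebra.TensorProduct.includeRight)
  let Φ : WithConv (B →ₐ[k] L) →* WithConv (L ⊗[k] B →ₐ[L] L) :=
    MonoidHom.mk' (fun x => toConv (Algebra.TensorProduct.liftEquivRight k L B L x.ofConv))
      (AlgGrp33.liftEquiv_mul L)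
  have hres : ∀ y, Φ (res y) = y := fun y =>
    congrArg toConv ((Algebra.TensorProduct.liftEquivRight k L B L).apply_symm_apply y.ofConv)
  have hΦ : Function.Injective Φ := fun x y h =>
    WithConv.ofConv_injective ((Algebra.TensorProduct.liftEquivRight k L B L).injective (congrArg WithConv.ofConv h))
  let pr : WithConv (B →ₐ[k] L) →* WithConv (A' →ₐ[k] L) :=
    MonoidHom.mk' (fun x => toConv (x.ofConv.comp (F : A' →ₐ[k] B)))
      fun x y => congrArg toConv (AlgHom.convMul_comp_bialgHom_distrib x y F)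
  have hYZ : res Y = res Z ^ q := hΦ (by rw [map_pow, hres, hres, hZ])
  let postZ : WithConv (A' →ₐ[k] B) →* WithConv (A' →ₐ[k] L) :=
    MonoidHom.mk' (fun x => toConv ((res Z).ofConv.comp x.ofConv))
      fun x y => congrArg toConv (AlgHom.comp_convMul_distrib (res Z).ofConv x y)
  have h4 : pr (res Y) = 1 := by
    rw [hYZ, map_pow, show pr (res Z) = postZ FF from rfl, ← map_pow, hFq, map_one]
  have h5 := DFunLike.congr_fun (congrArg WithConv.ofConv h4) a
  rw [map_sub, sub_eq_zero]
  show (res Y).ofConv (F a) = (res Y).ofConv (algebraMap k B _)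
  refine h5.trans ?_
  rw [AlgHom.commutes]
  rfl

end Groth.Agent.Torus37
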