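import Groth.Agent.Torus37.Cochar
import Groth.Agent.Torus37.Lift
import Groth.Agent.Prim37.GenNormal
import Groth.Agent.Prim37.UnipPts
import Groth.Agent.AGF80.Luna.Cartan
import Groth.Agent.AGF80.Luna.SplitTori
import Groth.Agent.AGF80.Nilp
import Groth.Agent.AlgGrp79.TorusPts

/-!
A connected group all of whose geometric tori are central has its maximal torus defined over the ground field: it is
the image of a power map.
-/

set_option autoImplicit false
set_option linter.unusedSectionVars false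
set_option linter.style.haveILetI false
set_option backward.isDefEq.respectTransparency.types false
set_option synthInstance.maxHeartbeats 400000
set_option maxHeartbeats 1600000

universe u

open CategoryTheory CategoryTheory.Limits MonoidalCategory CartesianMonoidalCategory MonObj GrpObj AlgebraicGeometry
open scoped TensorProduct
open WithConv TensorProduct Groth.Agent.Dyn50 Groth.Agent.GMod80

noncomputable section

namespace Groth.Agent.Torus37

variable {k : Type u} [Field k] {A : Type u} [CommRing A] [HopfAlgebra k A]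

local notation "Kb" => AlgebraicClosure k

/-- A central torus given on affine points commutes with all points. -/
theorem commute_points_of_affine {L : Type u} [Field L] {G T : Over (Spec (CommRingCat.of L))} [GrpObj G] [GrpObj T]
    [IsAffine G.left] [IsAffine T.left] (iT : T ⟶ G) [IsMonHom iT]
    (h : ∀ (R : Type u) [CommRing R] [Algebra L R] (g : VecGrp.pt L R ⟶ G) (t : VecGrp.pt L R ⟶ T),
      g * (t ≫ iT) = (t ≫ iT) * g) (X : Over (Spec (CommRingCat.of L))) (g : X ⟶ G) (t : X ⟶ T) :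
    g * (t ≫ iT) = (t ≫ iT) * g := by
  let U := G ⊗ T
  haveI : IsAffine U.left := inferInstanceAs (IsAffine (Limits.pullback G.hom T.hom))
  letI := AlgGrp79.GLnDiag.gAlg U
  have h0 := h Γ(U.left, ⊤) (AlgGrp79.GModRep.affInv U ≫ fst G T) (AlgGrp79.GModRep.affInv U ≫ snd G T)
  have h1 := congrArg (fun w => AlgGrp79.GModRep.affP U ≫ w) h0
  simp only [MonObj.comp_mul, ← Category.assoc, AlgGrp79.GModRep.affP_affInv, Category.id_comp] at h1
  have h2 := congrArg (fun w => lift g t ≫ w) h1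
  simp only [MonObj.comp_mul, ← Category.assoc, lift_fst, lift_snd] at h2
  exact h2

/-- A torus all of whose geometric points are killed by `q` is trivial. -/
theorem isTrivialGrp_of_pow {L : Type u} [Field L] [IsAlgClosed L] {T : Over (Spec (CommRingCat.of L))} [GrpObj T]
    (hT : Red.IsTorus T) {q : ℕ} (hq : 0 < q)
    (h : ∀ s : 𝟙_ (Over (Spec (CommRingCat.of L))) ⟶ T, s ^ q = 1) : Red.IsTrivialGrp T := by
  obtain ⟨hTs, -, hTa, -, -⟩ := AlgGrp33.IsogSub.torus_props hT
  haveI := hTs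
  haveI := hTa
  haveI : IsReduced T.left := AlgGrp79.isReduced_of_smooth T.hom
  obtain ⟨r, ⟨ε⟩⟩ := AGF80.Luna.isSplit_of_sepClosed hT
  obtain ⟨ψD, _⟩ := AlgGrp33.exists_coord_DS L (Fin r → ℤ)
  let iε : Red.DS (Spec (CommRingCat.of L)) (Fin r → ℤ) ≅ T := ((Grp.forget _).mapIso ε).symm
  haveI : IsMonHom iε.hom := ε.inv.hom.isMonHom_hom
  let ψT := ψD ≪≫ iε
  haveI : IsMonHom ψT.hom := inferInstanceAs (IsMonHom (ψD.hom ≫ iε.hom))
  have hd : HopfRep.IsDiagonalizable L (MonoidAlgebra L (Multiplicative (Fin r → ℤ))) := by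
    refine eq_top_iff.2 fun w hw => ?_
    clear hw
    induction w using MonoidAlgebra.induction_on with
    | of a => exact Submodule.subset_span (MonoidAlgebra.isGroupLikeElem_single_one a)
    | add a b ha hb => exact add_mem ha hb
    | smul c a ha => exact Submodule.smul_mem _ c ha
  refine AGF80.Luna.isTrivialGrp_of_pts fun s => ?_
  let i : 𝟙_ (Over (Spec (CommRingCat.of L))) ≅ VecGrp.pt L L := Over.isoMk (Iso.refl _) (by simp [VecGrp.pt])
  obtain ⟨y, hy⟩ := (e ψT L).surjective (i.inv ≫ s)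
  obtain ⟨z, hz⟩ := AlgGrp79.TorusPts.exists_root hd hq y
  have hs : s = (i.hom ≫ e ψT L z) ^ q := by
    rw [← MonObj.comp_pow, ← map_pow, hz, hy, Iso.hom_inv_id_assoc]
  rw [hs]
  exact h _

/-- The unit is fixed by power maps. -/
theorem unit_comp_pow {G : Over (Spec (CommRingCat.of k))} [GrpObj G] (n : ℕ) : η[G] ≫ (𝟙 G) ^ n = η[G] := by
  have h : η[G] = (1 : 𝟙_ (Over (Spec (CommRingCat.of k))) ⟶ G) := by
    rw [Hom.one_def, toUnit_unit, Category.id_comp]
  rw [MonObj.comp_pow, Category.comp_id, h, one_pow]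

set_option maxHeartbeats 4000000 in
/-- All geometric tori central and not unipotent: there is a torus. -/
theorem hasTorus_of_central (p : ℕ) [Fact p.Prime] [CharP k p] [Algebra.FiniteType k A] (hA : Good k Kb A)
    (hU : ¬ HopfRep.IsUnipotent k A)
    (hcen : ∀ (r : ℕ) (φ : Kb ⊗[k] A →ₐc[Kb] MonoidAlgebra Kb (Multiplicative (Fin r → ℤ))), IsCentralHom φ) :
    HasTorus k A := by
  classical
  haveI := hA.smooth
  haveI := hA.dom
  haveI := hA.isDomain
  let G := sp k A
  haveI : IsMonHom (Iso.refl G).hom := inferInstanceAs (IsMonHom (𝟙 G))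
  haveI : IsAffine G.left := inferInstanceAs (IsAffine (Spec (CommRingCat.of A)))
  haveI : Smooth G.hom := by
    show Smooth (Spec.map (CommRingCat.ofHom (algebraMap k A)))
    rw [HasRingHomProperty.Spec_iff (P := @Smooth)]
    exact RingHom.smooth_algebraMap.2 inferInstance
  haveI : ConnectedSpace G.left := inferInstanceAs (ConnectedSpace (PrimeSpectrum A))
  let σ := Spec.map (CommRingCat.ofHom (algebraMap k Kb))
  let Gb := Red.bc σ G
  haveI : IsAffine Gb.left := AGF80.GeomSub.isAffine_bc σ G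
  haveI : Smooth Gb.hom := AGF80.GeomSub.smooth_bc σ G
  haveI : GeometricallyConnected G.hom := CAlg6.GenConn.geometricallyConnected_grp G
  haveI : Subsingleton ↥(Spec (CommRingCat.of Kb)) := inferInstanceAs (Subsingleton (PrimeSpectrum Kb))
  haveI : Nonempty ↥(Spec (CommRingCat.of Kb)) := ⟨IsLocalRing.closedPoint Kb⟩
  haveI : GeometricallyConnected Gb.hom := inferInstanceAs (GeometricallyConnected (pullback.snd G.hom σ))
  haveI : ConnectedSpace Gb.left := GeometricallyConnected.connectedSpace_of_subsingleton (f := Gb.hom)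
  haveI : IsReduced Gb.left := AlgGrp79.isReduced_of_smooth Gb.hom
  obtain ⟨ψL, _⟩ := AlgGrp33.exists_coord_bc Kb (Iso.refl G)
  obtain ⟨T, _, iT, hT⟩ := AGF80.Nilp.exists_isMaxTorus (G := Gb)
  obtain ⟨hTm, hTmono, hTt, hTmax⟩ := id hT
  haveI := hTm
  haveI := hTmono
  obtain ⟨hTs, -, hTa, hTc, -⟩ := AlgGrp33.IsogSub.torus_props hTt
  haveI := hTs
  haveI := hTa
  haveI : IsReduced T.left := AlgGrp79.isReduced_of_smooth T.hom
  haveI : IsClosedImmersion iT.left := AGF80.BorelCor.isClosedImmersion_torus Gb hTt iT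
  -- coordinates of the torus
  obtain ⟨r, ⟨ε⟩⟩ := AGF80.Luna.isSplit_of_sepClosed hTt
  obtain ⟨ψD, _⟩ := AlgGrp33.exists_coord_DS Kb (Fin r → ℤ)
  haveI : IsMonHom ε.inv.hom.hom := ε.inv.hom.isMonHom_hom
  let iε : Red.DS (Spec (CommRingCat.of Kb)) (Fin r → ℤ) ≅ T := ((Grp.forget _).mapIso ε).symm
  haveI : IsMonHom iε.hom := ε.inv.hom.isMonHom_hom
  let ψT := ψD ≪≫ iε
  haveI : IsMonHom ψT.hom := inferInstanceAs (IsMonHom (ψD.hom ≫ iε.hom))
  let φ0 := pullBialg ψL ψT iT
  have hφ0 : IsCentralHom φ0 := hcen r φ0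
  have hcomm : ∀ (X : Over (Spec (CommRingCat.of Kb))) (g : X ⟶ Gb) (t : X ⟶ T), g * (t ≫ iT) = (t ≫ iT) * g := by
    refine commute_points_of_affine iT fun R _ _ g t => ?_
    letI : Algebra k R := ((algebraMap Kb R).comp (algebraMap k Kb)).toAlgebra
    haveI : IsScalarTower k Kb R := IsScalarTower.of_algebraMap_eq fun _ => rfl
    obtain ⟨gx, rfl⟩ := (e ψL R).surjective g
    obtain ⟨tx, rfl⟩ := (e ψT R).surjective t
    rw [e_comp ψL ψT iT tx, ← map_mul, ← map_mul]
    congr 1
    let Φ : WithConv (A →ₐ[k] R) →* WithConv (Kb ⊗[k] A →ₐ[Kb] R) :=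
      MonoidHom.mk' (fun x => toConv (Algebra.TensorProduct.liftEquivRight k Kb A R x.ofConv))
        (AlgGrp33.liftEquiv_mul Kb)
    have hΦ : ∀ y : WithConv (Kb ⊗[k] A →ₐ[Kb] R),
        Φ (toConv ((y.ofConv.restrictScalars k).comp Algebra.TensorProduct.includeRight)) = y := fun y =>
      congrArg toConv ((Algebra.TensorProduct.liftEquivRight k Kb A R).apply_symm_apply y.ofConv)
    have h1 := congrArg Φ (hφ0 R (toConv ((gx.ofConv.restrictScalars k).comp Algebra.TensorProduct.includeRight))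
      tx.ofConv).eq
    have h2 : tpt φ0 tx.ofConv = toConv ((((toConv (tx.ofConv.comp (pull ψL ψT iT))) :
        WithConv (Kb ⊗[k] A →ₐ[Kb] R)).ofConv.restrictScalars k).comp Algebra.TensorProduct.includeRight) := rfl
    rw [map_mul, map_mul, h2, hΦ, hΦ] at h1
    exact h1
  have hTn : AlgGrp.IsNormalHom iT := fun X g t => ⟨t, by rw [hcomm X g t, mul_inv_cancel_right]⟩
  -- unipotent radical and powers
  obtain ⟨U, _, u, hum, huc, hUs, hUc, hUn, hUT, hUmax⟩ := AGF80.UnipExist.exists_unipRad Gb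
  haveI := hum
  haveI := huc
  haveI := hUs
  haveI := hUc
  haveI : IsAffine U.left := isAffine_of_isAffineHom u.left
  have hRad : Par.IsUnipotentRadical u := AGF80.UnipBasic.isUnipotentRadical_of_largest u hUn hUT hUmax
  obtain ⟨Q, _, _, ψU, hψU⟩ := GMod80.exists_coord U
  haveI := hψU
  haveI : Algebra.FiniteType Kb Q := GMod80.finiteType ψU
  haveI : CharP Kb p := charP_of_injective_algebraMap (algebraMap k Kb).injective p
  obtain ⟨m, hm⟩ := Prim37.points_exponent p (GMod80.isUnipotent_of_hasNoSubtorus ψU hUT)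
  have hUpts : ∀ y : 𝟙_ (Over (Spec (CommRingCat.of Kb))) ⟶ U, y ^ p ^ m = 1 := by
    intro y
    have hone : ∀ y : VecGrp.pt Kb Kb ⟶ U, y ^ p ^ m = 1 := fun y => by
      obtain ⟨x, rfl⟩ := (e ψU Kb).surjective y
      rw [← map_pow, hm, map_one]
    let i : 𝟙_ (Over (Spec (CommRingCat.of Kb))) ≅ VecGrp.pt Kb Kb :=
      Over.isoMk (Iso.refl _) (by simp [VecGrp.pt])
    have h := congrArg (fun w => i.hom ≫ w) (hone (i.inv ≫ y))
    simp only [MonObj.comp_pow, MonObj.comp_one, Iso.hom_inv_id_assoc] at h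
    exact h
  have hcent : Red.IsCentralizerOf iT (𝟙 Gb) := by
    refine ⟨inferInstance, inferInstance, fun Y g => ⟨fun _ Y' x s => ?_, fun _ => ⟨g, Category.comp_id g⟩⟩⟩
    exact hcomm Y' _ s
  let q := p ^ m
  have hpts : ∀ z : 𝟙_ (Over (Spec (CommRingCat.of Kb))) ⟶ Gb,
      ∃ s : 𝟙_ (Over (Spec (CommRingCat.of Kb))) ⟶ T, s ≫ iT = z ^ q := by
    intro z
    obtain ⟨s, y, hz⟩ := AGF80.Luna.cent_pts Gb hRad hT hcent z
    rw [Category.comp_id] at hz
    refine ⟨s ^ q, ?_⟩
    have hc : Commute (s ≫ iT) (y ≫ u) := (hcomm _ (y ≫ u) s).symm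
    rw [hz, hc.mul_pow, ← MonObj.pow_comp y q u, hUpts, MonObj.one_comp, _root_.mul_one, MonObj.pow_comp]
  -- the torus is nontrivial
  have hTne : ¬ Red.IsTrivialGrp T := fun htriv => hU <| by
    refine Prim37.isUnipotent_of_bc (Iso.refl G) σ fun T' _ j _ _ hT' => ?_
    refine isTrivialGrp_of_pow hT' (pow_pos (Fact.out : p.Prime).pos m : 0 < q) fun s => ?_
    obtain ⟨s', hs'⟩ := hpts (s ≫ j)
    haveI : IsIso T.hom := htriv
    have h1 : s' = 1 := Over.OverMorphism.ext ((cancel_mono T.hom).1 ((Over.w _).trans (Over.w _).symm))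
    rw [← cancel_mono j, MonObj.pow_comp, ← hs', h1, MonObj.one_comp, MonObj.one_comp]
  -- the subgroup generated by the powers
  haveI : GeometricallyReduced G.hom := CAlg6.GenDerived.geometricallyReduced_of_smooth G
  obtain ⟨K, _, j, hjm, hjc, hKs, hKc, -, ⟨x', hx'⟩, hKpts⟩ :=
    Prim37.exists_normal_closure G G ((𝟙 G) ^ q) η[G] (unit_comp_pow q)
  haveI := hjm
  haveI := hjc
  haveI := hKs
  haveI := hKc
  haveI : IsAffine K.left := isAffine_of_isAffineHom j.left
  let F := Over.pullback σ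
  have hpow : F.map ((𝟙 G) ^ q) = (𝟙 Gb) ^ q := by
    rw [show (𝟙 Gb : Gb ⟶ Gb) = F.map (𝟙 G) from (F.map_id G).symm]
    exact map_pow (MonoidHom.mk' (fun w : G ⟶ G => F.map w) fun a b => Functor.map_mul F a b) (𝟙 G) q
  obtain ⟨t, ht⟩ := AGF80.BorelCor.exists_factor_of_pts ((𝟙 Gb) ^ q) iT fun z => by
    obtain ⟨s, hs⟩ := hpts z
    exact ⟨s, by rw [hs, MonObj.comp_pow, Category.comp_id]⟩
  have hKT := hKpts Kb σ T iT hTn ⟨t, ht.trans hpow.symm⟩
  haveI : Smooth (Red.bc σ K).hom := AGF80.GeomSub.smooth_bc σ K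
  haveI : IsReduced (Red.bc σ K).left := AlgGrp79.isReduced_of_smooth (Red.bc σ K).hom
  haveI : LocallyOfFiniteType (Red.bc σ K).hom := inferInstance
  haveI : IsMonHom (F.map j) := inferInstance
  haveI : IsClosedImmersion (F.map j).left := CAlg6.GenDerived.isClosedImmersion_bc σ j
  obtain ⟨f, hf⟩ := AGF80.BorelCor.exists_factor_of_pts (F.map j) iT hKT
  haveI : IsMonHom f := AGF80.BorelCor.isMonHom_factor f iT (F.map j) hf
  haveI : IsClosedImmersion f.left := by
    haveI : IsClosedImmersion (f.left ≫ iT.left) := by rw [← Over.comp_left, hf]; infer_instance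
    exact IsClosedImmersion.of_comp f.left iT.left
  -- the subgroup is a torus
  obtain ⟨B, _, _, ψK, hψK⟩ := GMod80.exists_coord K
  haveI := hψK
  haveI : Algebra.FiniteType k B := GMod80.finiteType ψK
  obtain ⟨ψKL, _⟩ := AlgGrp33.exists_coord_bc Kb ψK
  haveI : IsDomain (Kb ⊗[k] B) := AlgGrp33.isDomain_geom ψK
  have hdiag : HopfRep.IsDiagonalizable Kb (Kb ⊗[k] B) := by
    let π := pullBialg ψT ψKL f
    refine eq_top_iff.2 fun b hb => ?_
    clear hb
    obtain ⟨w, rfl⟩ := pull_surjective ψT ψKL f b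
    show π w ∈ _
    induction w using MonoidAlgebra.induction_on with
    | of a =>
      exact Submodule.subset_span (IsGroupLikeElem.map π (MonoidAlgebra.isGroupLikeElem_single_one a))
    | add a b ha hb => rw [map_add]; exact add_mem ha hb
    | smul c a ha => rw [map_smul]; exact Submodule.smul_mem _ c ha
  have hKt : Red.IsTorus K := AlgGrp33.isTorus_of_isDiagonalizable ψK hdiag
  let ψA := Iso.refl G
  haveI : IsMonHom ψK.symm.hom := inferInstanceAs (IsMonHom ψK.inv)
  refine ⟨B, inferInstance, inferInstance, pullBialg ψA ψK j,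
    inferInstance, AGF80.UnipRad.isTorus_of_grpIso ψK.symm hKt, inferInstance, fun h1 => hTne ?_⟩
  -- otherwise all powers vanish
  have hj1 : j = 1 := by
    rw [← cancel_epi ψK.hom, ← GMod80.e_id ψK]
    erw [e_comp ψA ψK j]
    rw [MonObj.comp_one]
    rw [ofConv_toConv, AlgHom.id_comp]
    refine (congrArg (e ψA B) ?_).trans (map_one _)
    exact h1
  have hx1 : ((𝟙 G) ^ q : G ⟶ G) = 1 := by rw [← hx', hj1, MonObj.comp_one]
  have hq1 : ∀ z : 𝟙_ (Over (Spec (CommRingCat.of Kb))) ⟶ Gb, z ^ q = 1 := by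
    intro z
    have h2 : (𝟙 Gb : Gb ⟶ Gb) ^ q = 1 := by
      rw [← hpow, hx1]
      exact map_one (MonoidHom.mk' (fun w : G ⟶ G => F.map w) fun a b => Functor.map_mul F a b)
    rw [show z = z ≫ 𝟙 Gb from (Category.comp_id z).symm, ← MonObj.comp_pow, h2, MonObj.comp_one]
  exact isTrivialGrp_of_pow hTt (pow_pos (Fact.out : p.Prime).pos m : 0 < q) fun s => by
    apply (cancel_mono iT).1
    rw [MonObj.one_comp, MonObj.pow_comp]
    exact hq1 _

end Groth.Agent.Torus37
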