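import Groth.Agent.Torus37.Mu
import Groth.Agent.Torus37.Central
import Mathlib.RingTheory.Bialgebra.TensorProduct

/-!
Homomorphisms from diagonalisable groups over an extension field, as points with values in group algebras.
-/

set_option autoImplicit false
set_option linter.unusedSectionVars false
set_option linter.style.haveILetI false

universe u

open scoped TensorProduct MonoidAlgebra
open WithConv TensorProduct Groth.Agent.Dyn50

noncomputable section

namespace Groth.Agent.Torus37

variable {k : Type u} [Field k] {L : Type u} [Field L] [Algebra k L] {A : Type u} [CommRing A] [HopfAlgebra k A]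
variable {ι : Type} [Fintype ι] [DecidableEq ι] {c : ι → ι → A}
variable {M : Type} [CommMonoid M] [DecidableEq M]

/-- The entries over the extension. -/
def cL (L : Type u) [Field L] [Algebra k L] (c : ι → ι → A) (i j : ι) : L ⊗[k] A := 1 ⊗ₜ c i j

theorem isRep_cL (hc : Comod33.Mat.IsRep (k := k) c) : Comod33.Mat.IsRep (k := L) (cL (k := k) L c) where
  comul i j := by
    rw [cL, TensorProduct.comul_tmul, hc.comul, TensorProduct.tmul_sum, map_sum]
    refine Finset.sum_congr rfl fun l _ => ?_
    simp [cL]
  counit i j := by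
    rw [cL, TensorProduct.counit_tmul, hc.counit]
    split_ifs <;> simp

variable (φ : L ⊗[k] A →ₐc[L] MonoidAlgebra L M)

/-- The point of a homomorphism from a diagonalisable group. -/
def mor : A →ₐ[k] MonoidAlgebra L M :=
  ((φ : L ⊗[k] A →ₐ[L] MonoidAlgebra L M).restrictScalars k).comp Algebra.TensorProduct.includeRight

theorem mor_apply (a : A) : mor φ a = φ (1 ⊗ₜ a) := rfl

/-- The monomial. -/
abbrev mono (L : Type u) [Field L] {M : Type} (a : M) : MonoidAlgebra L M := MonoidAlgebra.single a 1

theorem single_eq_algebraMap_mul (a : M) (r : L) :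
    MonoidAlgebra.single a r = algebraMap L (MonoidAlgebra L M) r * mono L a := by
  rw [← Algebra.smul_def, MonoidAlgebra.smul_single, smul_eq_mul, _root_.mul_one]

variable {R : Type u} [CommRing R] [Algebra L R] [Algebra k R] [IsScalarTower k L R]

/-- The point given by a point of the diagonalisable group. -/
def tpt (t : MonoidAlgebra L M →ₐ[L] R) : WithConv (A →ₐ[k] R) := toConv ((t.restrictScalars k).comp (mor φ))

theorem ev_tpt (t : MonoidAlgebra L M →ₐ[L] R) :
    Comod33.Mat.ev (tpt φ t).ofConv c =
      ∑ a ∈ wtSupp φ (cL L c), t (mono L a) • (wt φ (cL L c) a).map (algebraMap L R) := by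
  ext i j
  show t (φ (cL L c i j)) = _
  rw [apply_eq_sum φ i j, map_sum, Matrix.sum_apply]
  refine Finset.sum_congr rfl fun a _ => ?_
  rw [single_eq_algebraMap_mul, map_mul, AlgHom.commutes, Matrix.smul_apply, Matrix.map_apply, smul_eq_mul, mul_comm]

/-- Products of points of the diagonalisable group. -/
theorem tpt_mul (hc : Comod33.Mat.IsRep (k := k) c)
    (hgen : Algebra.adjoin k (Set.range fun p : ι × ι => c p.1 p.2) = ⊤)
    (t₁ t₂ t : MonoidAlgebra L M →ₐ[L] R) (h : ∀ a, t (mono L a) = t₁ (mono L a) * t₂ (mono L a)) :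
    tpt φ t₁ * tpt φ t₂ = tpt φ t := by
  refine point_ext hgen ?_
  have e := Comod33.Mat.ev_mul hc (tpt φ t₁).ofConv (tpt φ t₂).ofConv
  rw [toConv_ofConv, toConv_ofConv] at e
  rw [e, ev_tpt, ev_tpt, ev_tpt, Finset.sum_mul]
  refine Finset.sum_congr rfl fun a ha => ?_
  rw [Finset.mul_sum, Finset.sum_eq_single a (fun b _ hb => ?_) (fun h' => (h' ha).elim)]
  · rw [smul_mul_assoc, mul_smul_comm, smul_smul, ← Matrix.map_mul, wt_mul φ (isRep_cL hc), if_pos rfl, h]
  · rw [smul_mul_assoc, mul_smul_comm, smul_smul, ← Matrix.map_mul, wt_mul φ (isRep_cL hc), if_neg (Ne.symm hb),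
      Matrix.map_zero _ (map_zero _), smul_zero]

/-- A homomorphism from a diagonalisable group is central when it commutes with all points. -/
def IsCentralHom : Prop :=
  ∀ (R : Type u) [CommRing R] [Algebra L R] [Algebra k R] [IsScalarTower k L R] (g : WithConv (A →ₐ[k] R))
    (t : MonoidAlgebra L M →ₐ[L] R), Commute g (tpt φ t)

/-- Weights commuting with the universal point give centrality. -/
theorem isCentralHom_of_wt (hc : Comod33.Mat.IsRep (k := k) c)
    (hgen : Algebra.adjoin k (Set.range fun p : ι × ι => c p.1 p.2) = ⊤)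
    (h : ∀ a, Commute (gen (cL L c)) ((wt φ (cL L c) a).map (algebraMap L (L ⊗[k] A)))) : IsCentralHom φ := by
  intro R _ _ _ _ g t
  refine point_ext hgen ?_
  have e1 := Comod33.Mat.ev_mul hc g.ofConv (tpt φ t).ofConv
  have e2 := Comod33.Mat.ev_mul hc (tpt φ t).ofConv g.ofConv
  rw [toConv_ofConv, toConv_ofConv] at e1 e2
  rw [e1, e2, ev_tpt, Finset.mul_sum, Finset.sum_mul]
  refine Finset.sum_congr rfl fun a _ => ?_
  rw [mul_smul_comm, smul_mul_assoc]
  congr 1
  let gh : L ⊗[k] A →ₐ[L] R := Algebra.TensorProduct.lift (Algebra.ofId L R) g.ofConv fun _ _ => Commute.all _ _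
  have hg : Comod33.Mat.ev g.ofConv c = (gen (cL L c)).map gh := by
    ext i j
    show g.ofConv (c i j) = gh (1 ⊗ₜ c i j)
    simp [gh]
  have hw : (wt φ (cL L c) a).map (algebraMap L R) =
      ((wt φ (cL L c) a).map (algebraMap L (L ⊗[k] A))).map gh := (map_algebraMap_map gh _).symm
  rw [hg, hw, ← Matrix.map_mul, ← Matrix.map_mul, (h a).eq]

theorem map_mul_const' {S : Type u} [CommRing S] [Algebra k S] (M : Matrix ι ι R) (D : Matrix ι ι k)
    (f : R →ₗ[k] S) :
    (M * D.map (algebraMap k R)).map f = M.map f * D.map (algebraMap k S) ∧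
      (D.map (algebraMap k R) * M).map f = D.map (algebraMap k S) * M.map f := by
  constructor <;> ext i j <;> simp only [Matrix.map_apply, Matrix.mul_apply, map_sum] <;>
    refine Finset.sum_congr rfl fun l _ => ?_
  · rw [mul_comm (M i l), ← Algebra.smul_def, map_smul, Algebra.smul_def, mul_comm]
  · rw [← Algebra.smul_def, map_smul, Algebra.smul_def]

/-- The weights commute with scalar matrices commuting with the group. -/
theorem wt_commute_const {V : Submodule k (Matrix ι ι k)} (hV : CentralAlg k c V) (a : M) {Z : Matrix ι ι k}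
    (hZ : Z ∈ V) : Commute (wt φ (cL L c) a) (Z.map (algebraMap k L)) := by
  have h := hV.commute_ev (mor φ) (inSpan_map hZ)
  have e : (Comod33.Mat.ev (mor φ) c).map ((coefL L a).restrictScalars k) = wt φ (cL L c) a := rfl
  have h2 := congrArg (fun X : Matrix ι ι (MonoidAlgebra L M) => X.map ((coefL L a).restrictScalars k)) h.eq
  simp only [(map_mul_const' _ Z _).1, (map_mul_const' _ Z _).2, e] at h2
  exact h2

theorem wt_commute_inSpan {V : Submodule k (Matrix ι ι k)} (hV : CentralAlg k c V) (a : M) {G : Matrix ι ι R}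
    (hG : InSpan V G) : Commute ((wt φ (cL L c) a).map (algebraMap L R)) G := by
  refine hG.commute fun Z hZ => ?_
  have h := (wt_commute_const φ hV a hZ).eq
  have e : Z.map (algebraMap k R) = (Z.map (algebraMap k L)).map (algebraMap L R) := by
    ext i j
    exact IsScalarTower.algebraMap_apply k L R _
  show _ * _ = _ * _
  rw [e, ← Matrix.map_mul, ← Matrix.map_mul, h]

/-- Commuting idempotent matrices over a Noetherian domain agreeing at a point are equal. -/
theorem eq_of_commute_idem {B : Type u} [CommRing B] [IsDomain B] [IsNoetherianRing B] {F : Type u} [Field F]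
    (ε : B →+* F) {P Q : Matrix ι ι B} (hP : IsIdempotentElem P) (hQ : IsIdempotentElem Q) (hPQ : Commute P Q)
    (he : P.map ε = Q.map ε) : P = Q := by
  have key : ∀ Z : Matrix ι ι B, IsIdempotentElem Z → Z.map ε = 0 → Z = 0 := by
    intro Z hZ h0
    have hmem : ∀ n i j, Z i j ∈ RingHom.ker ε ^ n := by
      intro n
      induction n with
      | zero => intro i j; simp
      | succ n ih =>
        intro i j
        rw [← hZ.eq, Matrix.mul_apply, pow_succ]
        exact Ideal.sum_mem _ fun l _ => Ideal.mul_mem_mul (ih i l) (congrFun (congrFun h0 l) j)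
    ext i j
    rw [Matrix.zero_apply, ← Ideal.mem_bot, ← Ideal.iInf_pow_eq_bot_of_isDomain (RingHom.ker ε) (RingHom.ker_ne_top _),
      Ideal.mem_iInf]
    exact fun n => hmem n i j
  have h1 : P * (1 - Q) = 0 := key _ (hP.mul_of_commute ((Commute.one_right P).sub_right hPQ) hQ.one_sub) (by
    rw [Matrix.map_mul, Matrix.map_sub _ (map_sub ε), Matrix.map_one _ (map_zero ε) (map_one ε), he, mul_sub,
      _root_.mul_one, ← Matrix.map_mul, hQ.eq, sub_self])
  have h2 : (1 - P) * Q = 0 := key _ (hP.one_sub.mul_of_commute ((Commute.one_left Q).sub_left hPQ) hQ) (by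
    rw [Matrix.map_mul, Matrix.map_sub _ (map_sub ε), Matrix.map_one _ (map_zero ε) (map_one ε), he, sub_mul,
      _root_.one_mul, ← Matrix.map_mul, hQ.eq, sub_self])
  rw [mul_sub, _root_.mul_one, sub_eq_zero] at h1
  rw [sub_mul, _root_.one_mul, sub_eq_zero] at h2
  exact h1.trans h2.symm

section ModP

variable (p : ℕ) [hp : Fact p.Prime] [CharP L p]

theorem pow_char_monoidAlgebra (y : MonoidAlgebra L (Multiplicative (ZMod p))) :
    y ^ p = algebraMap L _ (CoalgebraStruct.counit (R := L) y ^ p) := by
  haveI : CharP (MonoidAlgebra L (Multiplicative (ZMod p))) p :=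
    charP_of_injective_algebraMap (algebraMap L (MonoidAlgebra L (Multiplicative (ZMod p)))).injective p
  induction y using MonoidAlgebra.induction_linear with
  | zero => simp [zero_pow hp.out.ne_zero]
  | add x x' hx hx' => simp only [map_add, add_pow_char, hx, hx']
  | single a r =>
    rw [MonoidAlgebra.single_pow]
    have ha : a ^ p = 1 := by
      apply Multiplicative.toAdd.injective
      simp [nsmul_eq_mul]
    simp [ha, MonoidAlgebra.counit_single, MonoidAlgebra.coe_algebraMap]

/-- The additive character modulo `p`. -/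
def chiP (a : Multiplicative (ZMod p)) : L := ZMod.castHom dvd_rfl L a.toAdd

theorem chiP_mul (a b : Multiplicative (ZMod p)) : chiP (L := L) p (a * b) = chiP p a + chiP p b := by
  simp [chiP, map_add]

theorem chiP_injective : Function.Injective (chiP (L := L) p) := fun a b h => by
  have := (ZMod.castHom dvd_rfl L : ZMod p →+* L).injective h
  exact Multiplicative.toAdd.injective this

/-- The weight projections modulo `p` lie in the commutative algebra. -/
theorem inSpan_wt [CharP k p] [Infinite k] (hc : Comod33.Mat.IsRep (k := k) c) {V : Submodule k (Matrix ι ι k)}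
    (hV : CentralAlg k c V) {e : ℕ} (hpow : ∀ X ∈ lie k c, X ^ p ^ e ∈ V)
    (ψ : L ⊗[k] A →ₐc[L] MonoidAlgebra L (Multiplicative (ZMod p))) (b : Multiplicative (ZMod p)) :
    InSpan V (wt ψ (cL L c) b) := by
  set E := wtE ψ (chiP (L := L) p) (cL L c) with hE
  have hElie : InSpan (lie k c) E := by
    obtain ⟨δ, hδ, hδE⟩ : ∃ δ : A →ₗ[k] L, IsDer δ ∧ mat c δ = E := by
      refine ⟨(((dChar (chiP (L := L) p)).comp (ψ : L ⊗[k] A →ₗ[L] MonoidAlgebra L _)).restrictScalars k).comp
        (Algebra.TensorProduct.includeRight (R := k) (A := L) (B := A)).toLinearMap, fun x y => ?_, ?_⟩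
      · have h := isDer_dChar ψ (χ := chiP (L := L) p) (chiP_mul p) (1 ⊗ₜ x) (1 ⊗ₜ y)
        simp only [Algebra.TensorProduct.tmul_mul_tmul, _root_.mul_one] at h
        simp only [LinearMap.coe_comp, LinearMap.coe_restrictScalars, Function.comp_apply,
          AlgHom.toLinearMap_apply, Algebra.TensorProduct.includeRight_apply]
        refine h.trans ?_
        simp [Algebra.smul_def, TensorProduct.counit_tmul]
      · ext i j
        exact congrFun (congrFun (mat_dChar (c := cL L c) ψ (χ := chiP (L := L) p)) i) j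
    rw [← hδE]
    exact inSpan_of_dual fun f => map_mat_mem hδ f
  have hEV : InSpan V E := by
    rw [hE, ← pow_wtE ψ (χ := chiP (L := L) p) (isRep_cL hc) (n := p ^ e) (pow_ne_zero _ hp.out.ne_zero) (fun a => by
      rw [chiP, ← map_pow, ZMod.pow_card_pow])]
    exact inSpan_pow_of_forall hpow hElie
  have h1 : InSpan V (1 : Matrix ι ι L) := inSpan_one hV.one_mem
  have hT : InSpan V (E - chiP p b • (1 : Matrix ι ι L)) := Submodule.sub_mem _ hEV (Submodule.smul_mem _ _ h1)
  have key : wt ψ (cL L c) b = 1 - (E - chiP (L := L) p b • (1 : Matrix ι ι L)) ^ (p - 1) := by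
    have hmul : ∀ (a : Multiplicative (ZMod p)) (m : ℕ), (E - chiP (L := L) p b • (1 : Matrix ι ι L)) ^ m * wt ψ (cL L c) a =
        (chiP (L := L) p a - chiP (L := L) p b) ^ m • wt ψ (cL L c) a := by
      intro a m
      induction m with
      | zero => simp
      | succ m ih =>
        rw [pow_succ, _root_.mul_assoc, sub_mul, smul_mul_assoc, _root_.one_mul, hE, wtE_mul_wt ψ (isRep_cL hc),
          ← sub_smul, mul_smul_comm, ← hE, ih, smul_smul, pow_succ, mul_comm]
    have hd : ∀ a, (chiP (L := L) p a - chiP p b) ^ (p - 1) = if a = b then 0 else 1 := by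
      intro a
      split_ifs with hab
      · rw [hab, sub_self, zero_pow (Nat.sub_ne_zero_of_lt hp.out.one_lt)]
      · rw [chiP, chiP, ← map_sub, ← map_pow, ZMod.pow_card_sub_one_eq_one (fun h => hab ?_), map_one]
        exact Multiplicative.toAdd.injective (sub_eq_zero.1 h)
    have hS : ∀ X : Matrix ι ι L, 1 - X = ∑ a ∈ wtSupp ψ (cL L c), (wt ψ (cL L c) a - X * wt ψ (cL L c) a) :=
      fun X => by rw [Finset.sum_sub_distrib, ← Finset.mul_sum, wt_sum ψ (isRep_cL hc), _root_.mul_one]
    rw [hS]
    simp only [hmul, hd]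
    rw [Finset.sum_eq_single b (fun a _ ha => by rw [if_neg ha, one_smul, sub_self])
      (fun hb => by rw [wt_eq_zero ψ b hb]; simp), if_pos rfl, zero_smul, sub_zero]
  rw [key]
  exact Submodule.sub_mem _ h1 (InSpan.pow hV.one_mem hV.mul_mem hT _)

/-- Reduction modulo `p` of a homomorphism lands in the subgroup. -/
theorem kills_mIdeal_modP [CharP k p] [Infinite k] (hc : Comod33.Mat.IsRep (k := k) c)
    {V : Submodule k (Matrix ι ι k)} (hV : CentralAlg k c V) {e : ℕ} (hpow : ∀ X ∈ lie k c, X ^ p ^ e ∈ V)
    (ψ : L ⊗[k] A →ₐc[L] MonoidAlgebra L (Multiplicative (ZMod p))) :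
    ∀ a ∈ mIdeal p c V, mor ψ a = 0 := by
  refine (kills_mIdeal_iff p _).2 ⟨?_, fun a => ?_⟩
  · have h := ev_tpt (c := c) ψ (AlgHom.id L (MonoidAlgebra L (Multiplicative (ZMod p))))
    rw [show (tpt ψ (AlgHom.id L (MonoidAlgebra L (Multiplicative (ZMod p))))).ofConv = mor ψ from rfl] at h
    rw [h]
    exact InSpan.sum fun b _ => Submodule.smul_mem _ _
      ((inSpan_wt p hc hV hpow ψ b).map (IsScalarTower.toAlgHom k L _))
  · rw [pow_char_monoidAlgebra p, mor_apply, CoalgHomClass.counit_comp_apply, TensorProduct.counit_tmul,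
      IsScalarTower.algebraMap_apply k L]
    simp [Algebra.smul_def, map_pow]

end ModP

end Groth.Agent.Torus37
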