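import Groth.Agent.Comod33.MatrixRep
import Groth.Agent.Dyn50.Basic
import Mathlib.Algebra.TrivSqZeroExt.Basic
import Mathlib.Algebra.CharP.Lemmas
import Mathlib.LinearAlgebra.Basis.VectorSpace

/-!
The Lie algebra of an affine group as matrices, through a matrix representation: derivations at the unit, restricted powers,
stability under conjugation by points, and passage to coefficients in an algebra.
-/

set_option autoImplicit false
set_option linter.unusedSectionVars false
set_option linter.style.haveILetI false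

universe u v

open scoped TensorProduct
open WithConv TensorProduct Groth.Agent.Dyn50

noncomputable section

namespace Groth.Agent.Torus37

variable {k : Type u} [Field k] {A : Type u} [CommRing A] [HopfAlgebra k A]
variable {ι : Type} [Fintype ι] [DecidableEq ι] {c : ι → ι → A}

/-- The counit as an algebra map. -/
abbrev aug (k A : Type u) [Field k] [CommRing A] [HopfAlgebra k A] : A →ₐ[k] k := Bialgebra.counitAlgHom k A

/-- Derivations at the unit section. -/
def IsDer {R : Type u} [CommRing R] [Algebra k R] (δ : A →ₗ[k] R) : Prop :=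
  ∀ a b, δ (a * b) = aug k A a • δ b + aug k A b • δ a

/-- The matrix of a linear functional. -/
def mat {R : Type u} [CommRing R] [Algebra k R] (c : ι → ι → A) (δ : A →ₗ[k] R) : Matrix ι ι R :=
  Matrix.of fun i j => δ (c i j)

theorem mat_apply {R : Type u} [CommRing R] [Algebra k R] (δ : A →ₗ[k] R) (i j : ι) :
    mat c δ i j = δ (c i j) := rfl

/-- The derivations at the unit section form a subspace. -/
def derSub (k A : Type u) [Field k] [CommRing A] [HopfAlgebra k A] : Submodule k (A →ₗ[k] k) where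
  carrier := {δ | IsDer δ}
  add_mem' {δ δ'} h h' a b := by simp [h a b, h' a b, mul_add]; ring
  zero_mem' a b := by simp
  smul_mem' r δ h a b := by simp [h a b]; ring

/-- The matrix of a functional, linearly. -/
def matL (c : ι → ι → A) : (A →ₗ[k] k) →ₗ[k] Matrix ι ι k where
  toFun δ := mat c δ
  map_add' _ _ := rfl
  map_smul' _ _ := rfl

/-- The Lie algebra in a matrix representation. -/
def lie (k : Type u) [Field k] {A : Type u} [CommRing A] [HopfAlgebra k A] (c : ι → ι → A) :
    Submodule k (Matrix ι ι k) := (derSub k A).map (matL c)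

theorem mem_lie_iff (X : Matrix ι ι k) : X ∈ lie k c ↔ ∃ δ : A →ₗ[k] k, IsDer δ ∧ mat c δ = X :=
  Submodule.mem_map

theorem exists_derSection (c : ι → ι → A) :
    ∃ L : Matrix ι ι k →ₗ[k] (A →ₗ[k] k), (∀ Z, IsDer (L Z)) ∧ ∀ Z ∈ lie k c, mat c (L Z) = Z := by
  let f : derSub k A →ₗ[k] lie k c := ((matL c).comp (derSub k A).subtype).codRestrict _ fun δ => ⟨δ, δ.2, rfl⟩
  obtain ⟨g, hg⟩ := f.exists_rightInverse_of_surjective (LinearMap.range_eq_top.2 fun ⟨X, δ, hδ, hX⟩ =>
    ⟨⟨δ, hδ⟩, Subtype.ext hX⟩)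
  obtain ⟨q, hq⟩ := LinearMap.exists_extend (p := lie k c) (LinearMap.id : lie k c →ₗ[k] lie k c)
  let P : Matrix ι ι k →ₗ[k] derSub k A := g.comp q
  have hP : P.comp (lie k c).subtype = g := by rw [LinearMap.comp_assoc, hq, LinearMap.comp_id]
  refine ⟨(derSub k A).subtype.comp P, fun Z => (P Z).2, fun Z hZ => ?_⟩
  have h1 : (P Z : A →ₗ[k] k) = (g ⟨Z, hZ⟩ : A →ₗ[k] k) := congrArg Subtype.val (DFunLike.congr_fun hP ⟨Z, hZ⟩)
  show mat c (P Z : A →ₗ[k] k) = Z
  rw [h1]
  exact congrArg Subtype.val (DFunLike.congr_fun hg ⟨Z, hZ⟩)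

section Invariant

/-- The left invariant operator of a functional. -/
def dOp (δ : A →ₗ[k] k) : A →ₗ[k] A :=
  (TensorProduct.rid k A).toLinearMap ∘ₗ δ.lTensor A ∘ₗ CoalgebraStruct.comul

/-- The evaluation of the second factor at the unit. -/
def right (δ : A →ₗ[k] k) : A ⊗[k] A →ₗ[k] A := (TensorProduct.rid k A).toLinearMap ∘ₗ δ.lTensor A

theorem right_tmul (δ : A →ₗ[k] k) (a b : A) : right δ (a ⊗ₜ b) = δ b • a := by simp [right]

theorem right_aug_comul (a : A) : right (aug k A).toLinearMap (CoalgebraStruct.comul (R := k) a) = a := by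
  show TensorProduct.rid k A ((aug k A).toLinearMap.lTensor A (CoalgebraStruct.comul (R := k) a)) = a
  rw [show (aug k A).toLinearMap = CoalgebraStruct.counit (R := k) (A := A) from rfl,
    Coalgebra.lTensor_counit_comul]
  simp

theorem aug_dOp (δ : A →ₗ[k] k) (a : A) : aug k A (dOp δ a) = δ a := by
  have h : ∀ z : A ⊗[k] A, aug k A (TensorProduct.rid k A (δ.lTensor A z)) =
      δ (TensorProduct.lid k A ((aug k A).toLinearMap.rTensor A z)) := by
    intro z
    induction z with
    | zero => simp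
    | add x y hx hy => simp only [map_add, hx, hy]
    | tmul x y => simp [mul_comm]
  show aug k A (TensorProduct.rid k A (δ.lTensor A (CoalgebraStruct.comul (R := k) a))) = _
  rw [h, show (aug k A).toLinearMap = CoalgebraStruct.counit (R := k) (A := A) from rfl,
    Coalgebra.rTensor_counit_comul]
  simp

theorem dOp_mul {δ : A →ₗ[k] k} (h : IsDer δ) (a b : A) : dOp δ (a * b) = a * dOp δ b + b * dOp δ a := by
  have key : ∀ z w : A ⊗[k] A, right δ (z * w) =
      right (aug k A).toLinearMap z * right δ w + right (aug k A).toLinearMap w * right δ z := by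
    intro z w
    induction z with
    | zero => simp
    | add x y hx hy => simp only [add_mul, map_add, hx, hy]; ring
    | tmul x y =>
      induction w with
      | zero => simp
      | add x' y' hx hy => simp only [mul_add, map_add, hx, hy]; ring
      | tmul x' y' =>
        simp only [Algebra.TensorProduct.tmul_mul_tmul, right_tmul, h y y', AlgHom.toLinearMap_apply,
          smul_eq_mul, Algebra.smul_mul_assoc, Algebra.mul_smul_comm, add_smul, mul_smul, smul_comm (δ y) (aug k A y')]
        rw [mul_comm x' x, smul_comm (δ y') (aug k A y)]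
  show right δ (CoalgebraStruct.comul (R := k) (a * b)) = a * right δ (CoalgebraStruct.comul (R := k) b) +
    b * right δ (CoalgebraStruct.comul (R := k) a)
  rw [Bialgebra.comul_mul, key, right_aug_comul, right_aug_comul]

theorem dOp_rep (hc : Comod33.Mat.IsRep (k := k) c) (δ : A →ₗ[k] k) (i j : ι) :
    dOp δ (c i j) = ∑ l, mat c δ l j • c i l := by
  show right δ (CoalgebraStruct.comul (R := k) (c i j)) = _
  rw [hc.comul, map_sum]
  exact Finset.sum_congr rfl fun l _ => right_tmul _ _ _

theorem dOp_pow_rep (hc : Comod33.Mat.IsRep (k := k) c) (δ : A →ₗ[k] k) (n : ℕ) :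
    ∀ i j, (dOp δ ^ n) (c i j) = ∑ l, (mat c δ ^ n) l j • c i l := by
  induction n with
  | zero => intro i j; simp [Matrix.one_apply, ite_smul]
  | succ n ih =>
    intro i j
    rw [pow_succ', Module.End.mul_apply, ih, map_sum, pow_succ']
    simp only [map_smul, dOp_rep hc, Finset.smul_sum, smul_smul, Matrix.mul_apply, Finset.sum_smul]
    rw [Finset.sum_comm]
    refine Finset.sum_congr rfl fun l _ => Finset.sum_congr rfl fun m _ => ?_
    rw [mul_comm]

/-- In characteristic `p` left and right multiplications raise to `p`-powers separately. -/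
theorem adOp_pow_char {E : Type v} [Ring E] [Algebra k E] [Nontrivial E] (p : ℕ) [Fact p.Prime] [CharP k p] (x : E)
    (e : ℕ) : (LinearMap.mulLeft k x - LinearMap.mulRight k x) ^ (p ^ e) =
      LinearMap.mulLeft k (x ^ (p ^ e)) - LinearMap.mulRight k (x ^ (p ^ e)) := by
  haveI : CharP (Module.End k E) p := charP_of_injective_algebraMap (algebraMap k (Module.End k E)).injective p
  rw [sub_pow_char_pow_of_commute p e (LinearMap.commute_mulLeft_right x x), LinearMap.pow_mulLeft,
    LinearMap.pow_mulRight]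

theorem dOp_pow_char_mul (p : ℕ) [Fact p.Prime] [CharP k p] {δ : A →ₗ[k] k} (h : IsDer δ) (a b : A) :
    (dOp δ ^ p) (a * b) = a * (dOp δ ^ p) b + b * (dOp δ ^ p) a := by
  haveI : Nontrivial A := RingHom.domain_nontrivial (aug k A).toRingHom
  haveI : Nontrivial (Module.End k A) := inferInstance
  let D : Module.End k A := dOp δ
  let adD : Module.End k (Module.End k A) := LinearMap.mulLeft k D - LinearMap.mulRight k D
  have h1 : ∀ y : A, adD (LinearMap.mulLeft k y) = LinearMap.mulLeft k (D y) := fun y => LinearMap.ext fun z => by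
    show D (y * z) - y * D z = D y * z
    rw [dOp_mul h]; ring
  have h2 : ∀ (n : ℕ) (y : A), (adD ^ n) (LinearMap.mulLeft k y) = LinearMap.mulLeft k ((D ^ n) y) := by
    intro n
    induction n with
    | zero => intro y; simp
    | succ n ih =>
      intro y
      rw [pow_succ', Module.End.mul_apply, ih, h1, pow_succ', Module.End.mul_apply]
  have h3 := h2 p a
  rw [show adD ^ p = adD ^ (p ^ 1) by rw [pow_one], adOp_pow_char p D 1, pow_one] at h3
  have h4 := congrArg (fun f : Module.End k A => f b) h3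
  simp only [LinearMap.sub_apply, LinearMap.mulLeft_apply, LinearMap.mulRight_apply, Module.End.mul_apply] at h4
  show (D ^ p) (a * b) = _
  rw [sub_eq_iff_eq_add] at h4
  rw [h4]
  show (D ^ p) a * b + a * (D ^ p) b = a * (D ^ p) b + b * (D ^ p) a
  ring

theorem mem_lie_pow_char (hc : Comod33.Mat.IsRep (k := k) c) (p : ℕ) [Fact p.Prime] [CharP k p] {X : Matrix ι ι k}
    (hX : X ∈ lie k c) : X ^ p ∈ lie k c := by
  obtain ⟨δ, hδ, rfl⟩ := (mem_lie_iff X).1 hX
  refine (mem_lie_iff _).2 ⟨(aug k A).toLinearMap ∘ₗ (dOp δ ^ p), fun a b => ?_, ?_⟩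
  · simp [dOp_pow_char_mul p hδ]
  · ext i j
    show aug k A ((dOp δ ^ p) (c i j)) = _
    rw [dOp_pow_rep hc, map_sum]
    have : ∀ l, aug k A (c i l) = if i = l then 1 else 0 := fun l => hc.counit i l
    simp [map_smul, this]

theorem mem_lie_pow_char_pow (hc : Comod33.Mat.IsRep (k := k) c) (p : ℕ) [Fact p.Prime] [CharP k p]
    {X : Matrix ι ι k} (hX : X ∈ lie k c) : ∀ e : ℕ, X ^ p ^ e ∈ lie k c
  | 0 => by simpa using hX
  | e + 1 => by
    rw [pow_succ, pow_mul]
    exact mem_lie_pow_char hc p (mem_lie_pow_char_pow hc p hX e)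

end Invariant

section Coefficients

variable {R : Type u} [CommRing R] [Algebra k R]

/-- A linear map of scalar matrices, extended to coefficients. -/
def ext' {κ : Type} [Fintype κ] [DecidableEq κ] (f : Matrix ι ι k →ₗ[k] Matrix κ κ k) (Ω : Matrix ι ι R) :
    Matrix κ κ R := ∑ i, ∑ j, Ω i j • (f (Matrix.single i j 1)).map (algebraMap k R)

theorem map_ext' {κ : Type} [Fintype κ] [DecidableEq κ] (f : Matrix ι ι k →ₗ[k] Matrix κ κ k) (Ω : Matrix ι ι R)
    (φ : R →ₗ[k] k) : (ext' f Ω).map φ = f (Ω.map φ) := by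
  conv_rhs => rw [Matrix.matrix_eq_sum_single (Ω.map φ)]
  ext a b
  simp only [Matrix.map_apply, ext', Matrix.sum_apply, map_sum, Matrix.smul_apply, smul_eq_mul, ← Algebra.smul_def,
    map_smul]
  refine Finset.sum_congr rfl fun i _ => Finset.sum_congr rfl fun j _ => ?_
  rw [show Matrix.single i j (φ (Ω i j)) = φ (Ω i j) • Matrix.single i j (1 : k) by
    rw [Matrix.smul_single, smul_eq_mul, mul_one], map_smul, Matrix.smul_apply, smul_eq_mul, mul_comm (Ω i j),
    ← Algebra.smul_def, map_smul, smul_eq_mul, mul_comm]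

theorem ext'_mem {κ : Type} [Fintype κ] [DecidableEq κ] (f : Matrix ι ι k →ₗ[k] Matrix κ κ k) {Ω : Matrix ι ι R}
    {I : Ideal R} (h : ∀ i j, Ω i j ∈ I) (a b : κ) : ext' f Ω a b ∈ I := by
  simp only [ext', Matrix.sum_apply, Matrix.smul_apply, smul_eq_mul]
  exact Ideal.sum_mem _ fun i _ => Ideal.sum_mem _ fun j _ => I.mul_mem_right _ (h i j)

theorem eq_of_forall_dual {κ : Type} {Ω Ω' : Matrix κ κ R} (h : ∀ φ : R →ₗ[k] k, Ω.map φ = Ω'.map φ) :
    Ω = Ω' := by
  ext i j
  rw [← sub_eq_zero]
  refine (Module.forall_dual_apply_eq_zero_iff k _).1 fun φ => ?_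
  have := congrFun (congrFun (h φ) i) j
  simp only [Matrix.map_apply] at this
  rw [map_sub, this, sub_self]

/-- The derivation with given matrix of coefficients. -/
def derR (L : Matrix ι ι k →ₗ[k] (A →ₗ[k] k)) (Ω : Matrix ι ι R) : A →ₗ[k] R :=
  ∑ i, ∑ j, (LinearMap.toSpanSingleton k R (Ω i j)).comp (L (Matrix.single i j 1))

theorem derR_apply (L : Matrix ι ι k →ₗ[k] (A →ₗ[k] k)) (Ω : Matrix ι ι R) (a : A) :
    derR L Ω a = ∑ i, ∑ j, L (Matrix.single i j 1) a • Ω i j := by
  simp [derR, LinearMap.toSpanSingleton_apply]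

theorem isDer_derR {L : Matrix ι ι k →ₗ[k] (A →ₗ[k] k)} (hL : ∀ Z, IsDer (L Z)) (Ω : Matrix ι ι R) :
    IsDer (derR L Ω) := fun a b => by
  simp only [derR_apply, hL _ a b, Finset.smul_sum, ← Finset.sum_add_distrib, add_smul, smul_eq_mul, mul_smul]

theorem mat_derR {L : Matrix ι ι k →ₗ[k] (A →ₗ[k] k)} (hL : ∀ Z ∈ lie k c, mat c (L Z) = Z) {Ω : Matrix ι ι R}
    (hΩ : ∀ φ : R →ₗ[k] k, Ω.map φ ∈ lie k c) : mat c (derR L Ω) = Ω := by
  have h1 : mat c (derR L Ω) = ext' ((matL c).comp L) Ω := by
    ext a b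
    simp only [mat_apply, derR_apply, ext', Matrix.sum_apply, Matrix.smul_apply, Matrix.map_apply, smul_eq_mul]
    refine Finset.sum_congr rfl fun i _ => Finset.sum_congr rfl fun j _ => ?_
    rw [Algebra.smul_def, mul_comm]
    rfl
  rw [h1]
  refine eq_of_forall_dual (k := k) fun φ => ?_
  rw [map_ext']
  exact hL _ (hΩ φ)

theorem map_mat_mem {δ : A →ₗ[k] R} (hδ : IsDer δ) (φ : R →ₗ[k] k) : (mat c δ).map φ ∈ lie k c :=
  (mem_lie_iff _).2 ⟨φ.comp δ, fun a b => by simp [hδ a b], rfl⟩

/-- The point with values in the dual numbers of a derivation. -/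
def dualPoint {δ : A →ₗ[k] R} (hδ : IsDer δ) : A →ₐ[k] TrivSqZeroExt R R where
  toFun a := TrivSqZeroExt.inl (algebraMap k R (aug k A a)) + TrivSqZeroExt.inr (δ a)
  map_one' := by
    have h := hδ 1 1
    rw [map_one, one_smul, _root_.mul_one, right_eq_add] at h
    ext <;> simp [h]
  map_zero' := by ext <;> simp
  map_add' a b := by ext <;> simp
  map_mul' a b := by
    ext
    · simp
    · simp [hδ a b, Algebra.smul_def, mul_comm]
  commutes' r := by
    have h1 : δ (algebraMap k A r) = 0 := by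
      have h := hδ 1 1
      rw [map_one, one_smul, _root_.mul_one, right_eq_add] at h
      rw [Algebra.algebraMap_eq_smul_one, map_smul, h, smul_zero]
    ext
    · simp [TrivSqZeroExt.algebraMap_eq_inl']
    · simp [TrivSqZeroExt.algebraMap_eq_inl', h1]

/-- A dual number point over the unit gives a derivation. -/
theorem isDer_snd (x : A →ₐ[k] TrivSqZeroExt R R) (h : ∀ a, (x a).fst = algebraMap k R (aug k A a))
    (δ : A →ₗ[k] R) (hδ : ∀ a, δ a = (x a).snd) : IsDer δ := fun a b => by
  simp [hδ, h, Algebra.smul_def, mul_comm]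

/-- The Lie algebra is stable under conjugation by points. -/
theorem map_conj_mem (hc : Comod33.Mat.IsRep (k := k) c) {δ : A →ₗ[k] R} (hδ : IsDer δ)
    (g : WithConv (A →ₐ[k] R)) (φ : R →ₗ[k] k) :
    (Comod33.Mat.ev g.ofConv c * mat c δ * Comod33.Mat.ev g⁻¹.ofConv c).map φ ∈ lie k c := by
  let inl : R →ₐ[k] (TrivSqZeroExt R R) := (TrivSqZeroExt.inlAlgHom R R R).restrictScalars k
  let fst' : (TrivSqZeroExt R R) →ₐ[k] R := (TrivSqZeroExt.fstHom R R R).restrictScalars k
  let G := Comod33.Mat.ev g.ofConv c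
  let G' := Comod33.Mat.ev g⁻¹.ofConv c
  have hGG : G * G' = 1 := by
    show Comod33.Mat.ev g.ofConv c * Comod33.Mat.ev g⁻¹.ofConv c = 1
    rw [← Comod33.Mat.ev_mul hc, toConv_ofConv, toConv_ofConv, mul_inv_cancel, Comod33.Mat.ev_one hc]
  let x : WithConv (A →ₐ[k] (TrivSqZeroExt R R)) :=
    toConv (inl.comp g.ofConv) * toConv (dualPoint hδ) * toConv (inl.comp g⁻¹.ofConv)
  have hfst : ∀ a, (x.ofConv a).fst = algebraMap k R (aug k A a) := by
    intro a
    have h1 : fst'.comp x.ofConv = (1 : WithConv (A →ₐ[k] R)).ofConv := by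
      simp only [x, AlgHom.comp_convMul_distrib, ofConv_toConv, ← AlgHom.comp_assoc]
      rw [show fst'.comp inl = AlgHom.id k R from AlgHom.ext fun r => rfl, AlgHom.id_comp, AlgHom.id_comp,
        show fst'.comp (dualPoint hδ) = (1 : WithConv (A →ₐ[k] R)).ofConv from AlgHom.ext fun r => by
          show (TrivSqZeroExt.inl (algebraMap k R (aug k A r)) + TrivSqZeroExt.inr (δ r) : (TrivSqZeroExt R R)).fst = _
          rw [TrivSqZeroExt.fst_add, TrivSqZeroExt.fst_inl, TrivSqZeroExt.fst_inr, add_zero]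
          rfl]
      simp
    exact DFunLike.congr_fun h1 a
  let δ' : A →ₗ[k] R := ((TrivSqZeroExt.sndHom R R).restrictScalars k).comp x.ofConv.toLinearMap
  have hδ' : IsDer δ' := isDer_snd x.ofConv hfst δ' fun a => rfl
  suffices mat c δ' = G * mat c δ * G' by
    rw [show Comod33.Mat.ev g.ofConv c * mat c δ * Comod33.Mat.ev g⁻¹.ofConv c = mat c δ' from this.symm]
    exact map_mat_mem hδ' φ
  ext i j
  show ((Comod33.Mat.ev x.ofConv c) i j).snd = _
  have hx : Comod33.Mat.ev x.ofConv c = G.map inl * Comod33.Mat.ev (dualPoint hδ) c * G'.map inl := by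
    show Comod33.Mat.ev (toConv (inl.comp g.ofConv) * toConv (dualPoint hδ) * toConv (inl.comp g⁻¹.ofConv)).ofConv c = _
    generalize hy : toConv (inl.comp g.ofConv) * toConv (dualPoint hδ) = y
    rw [show y = toConv y.ofConv from rfl, Comod33.Mat.ev_mul hc, ← hy, Comod33.Mat.ev_mul hc]
    rfl
  have hd : Comod33.Mat.ev (dualPoint hδ) c = (1 : Matrix ι ι (TrivSqZeroExt R R)) + (mat c δ).map TrivSqZeroExt.inr := by
    ext a b
    · show (TrivSqZeroExt.inl (algebraMap k R (aug k A (c a b))) + TrivSqZeroExt.inr (δ (c a b)) : (TrivSqZeroExt R R)).fst = _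
      rw [show aug k A (c a b) = _ from hc.counit a b, Matrix.add_apply, Matrix.one_apply]
      split_ifs <;> simp [mat_apply]
    · show (TrivSqZeroExt.inl (algebraMap k R (aug k A (c a b))) + TrivSqZeroExt.inr (δ (c a b)) : (TrivSqZeroExt R R)).snd = _
      rw [show aug k A (c a b) = _ from hc.counit a b, Matrix.add_apply, Matrix.one_apply]
      split_ifs <;> simp [mat_apply]
  have hinl : G.map inl * (1 : Matrix ι ι (TrivSqZeroExt R R)) * G'.map inl = (1 : Matrix ι ι (TrivSqZeroExt R R)) := by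
    rw [Matrix.mul_one, ← Matrix.map_mul, hGG, Matrix.map_one inl (map_zero _) (map_one _)]
  rw [hx, hd, mul_add, add_mul, hinl, Matrix.add_apply, TrivSqZeroExt.snd_add]
  have h1 : ((1 : Matrix ι ι (TrivSqZeroExt R R)) i j).snd = 0 := by
    rw [Matrix.one_apply]; split_ifs <;> simp
  rw [h1, zero_add]
  have key : ∀ a b, ((G.map inl : Matrix ι ι (TrivSqZeroExt R R)) * ((mat c δ).map TrivSqZeroExt.inr : Matrix ι ι (TrivSqZeroExt R R)) * (G'.map inl : Matrix ι ι (TrivSqZeroExt R R))) a b =
      (TrivSqZeroExt.inr ((G * mat c δ * G') a b) : (TrivSqZeroExt R R)) := by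
    intro a b
    have hi : ∀ r : R, inl r = TrivSqZeroExt.inl r := fun r => rfl
    simp only [Matrix.mul_apply, Matrix.map_apply, hi, Finset.sum_mul, TrivSqZeroExt.inl_mul_inr,
      TrivSqZeroExt.inr_mul_inl, TrivSqZeroExt.inr_sum]
    refine Finset.sum_congr rfl fun x _ => ?_
    refine Finset.sum_congr rfl fun y _ => ?_
    simp [mul_comm]
  rw [key, TrivSqZeroExt.snd_inr]

end Coefficients

end Groth.Agent.Torus37
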