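import Groth.Agent.Torus37.Step

/-!
Centrality of a homomorphism from a split torus is detected by its restrictions to finite cyclic subgroups.
-/

set_option autoImplicit false
set_option linter.unusedSectionVars false
set_option linter.style.haveILetI false

universe u

open scoped TensorProduct MonoidAlgebra
open WithConv TensorProduct Groth.Agent.Dyn50

noncomputable section

namespace Groth.Agent.Torus37

variable {k : Type u} [Field k] {L : Type u} [Field L] [Algebra k L] {A : Type u} [CommRing A] [HopfAlgebra k A]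
variable {ι : Type} [Fintype ι] [DecidableEq ι] {c : ι → ι → A}

/-- Central homomorphisms have weights commuting with the universal point. -/
theorem commute_wt_of_central {M : Type} [CommMonoid M] [DecidableEq M] (φ : L ⊗[k] A →ₐc[L] MonoidAlgebra L M)
    (hc : Comod33.Mat.IsRep (k := k) c) (h : IsCentralHom φ) (a : M) :
    Commute (gen (cL L c)) ((wt φ (cL L c) a).map (algebraMap L (L ⊗[k] A))) := by
  classical
  let AL := L ⊗[k] A
  let R := MonoidAlgebra AL M
  let g : WithConv (A →ₐ[k] R) :=
    toConv ((IsScalarTower.toAlgHom k AL R).comp Algebra.TensorProduct.includeRight)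
  let t : MonoidAlgebra L M →ₐ[L] R := tMap (MonoidAlgebra.of AL M)
  have h0 := h R g t
  let cst : AL →+* R := algebraMap AL R
  have hg : Comod33.Mat.ev g.ofConv c = (gen (cL L c)).map cst := rfl
  have e1 := Comod33.Mat.ev_mul hc g.ofConv (tpt φ t).ofConv
  have e2 := Comod33.Mat.ev_mul hc (tpt φ t).ofConv g.ofConv
  rw [toConv_ofConv, toConv_ofConv] at e1 e2
  rw [h0.eq, e2, hg, ev_tpt, Finset.mul_sum, Finset.sum_mul] at e1
  have hT : ∀ a', (wt φ (cL L c) a').map (algebraMap L R) =
      ((wt φ (cL L c) a').map (algebraMap L AL)).map cst :=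
    fun a' => Matrix.ext fun i l => IsScalarTower.algebraMap_apply L AL R _
  simp only [mul_smul_comm, smul_mul_assoc, hT, ← Matrix.map_mul] at e1
  have ht : ∀ a', t (mono L a') = MonoidAlgebra.single a' (1 : AL) := fun a' => by
    show tMap (L := L) _ (mono L a') = _
    rw [tMap_mono]; rfl
  have hex : ∀ Z : M → Matrix ι ι AL, ∀ i l,
      ((∑ a' ∈ wtSupp φ (cL L c), t (mono L a') • (Z a').map cst : Matrix ι ι R) i l).coeff a =
        if a ∈ wtSupp φ (cL L c) then Z a i l else 0 := by
    intro Z i l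
    rw [Matrix.sum_apply]
    rw [MonoidAlgebra.coeff_sum, Finset.sum_apply']
    have hterm : ∀ a', ((t (mono L a') • (Z a').map cst : Matrix ι ι R) i l).coeff a = if a' = a then Z a' i l else 0 := by
      intro a'
      rw [Matrix.smul_apply, Matrix.map_apply, ht, smul_eq_mul]
      show (MonoidAlgebra.single a' (1 : AL) * algebraMap AL R (Z a' i l)).coeff a = _
      rw [MonoidAlgebra.coe_algebraMap]
      simp only [Algebra.algebraMap_self, RingHom.coe_id, Function.comp_apply, id_eq]
      erw [MonoidAlgebra.single_mul_single]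
      rw [MonoidAlgebra.coeff_single, Finsupp.single_apply, _root_.mul_one, _root_.one_mul]
    simp only [hterm]
    rw [Finset.sum_ite_eq']
  by_cases ha : a ∈ wtSupp φ (cL L c)
  · refine Matrix.ext fun i l => ?_
    have h2 := congrArg (fun Y : Matrix ι ι R => (Y i l).coeff a) e1
    simp only [hex fun a' => gen (cL L c) * (wt φ (cL L c) a').map (algebraMap L AL),
      hex fun a' => (wt φ (cL L c) a').map (algebraMap L AL) * gen (cL L c), if_pos ha] at h2
    first | exact h2 | exact h2.symm
  · rw [wt_eq_zero φ a ha, Matrix.map_zero _ (map_zero _)]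
    exact Commute.zero_right _

/-- A homomorphism from a split torus is central if all its restrictions to cyclic subgroups of `p`-power order are. -/
theorem isCentralHom_of_cyc (p : ℕ) [hp : Fact p.Prime] {r : ℕ}
    (φ : L ⊗[k] A →ₐc[L] MonoidAlgebra L (Multiplicative (Fin r → ℤ)))
    (hc : Comod33.Mat.IsRep (k := k) c)
    (hgen : Algebra.adjoin k (Set.range fun p : ι × ι => c p.1 p.2) = ⊤)
    (h : ∀ (n : ℕ) (ψ : L ⊗[k] A →ₐc[L] MonoidAlgebra L (Cyc p n)), IsCentralHom ψ) : IsCentralHom φ := by
  classical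
  refine isCentralHom_of_wt φ hc hgen fun a => ?_
  set S := insert a (wtSupp φ (cL (k := k) L c)) with hS
  obtain ⟨B, hB⟩ : ∃ B : ℕ, ∀ x ∈ S, ∀ i, ((Multiplicative.toAdd x i).natAbs : ℕ) ≤ B :=
    ⟨S.sup fun x => Finset.univ.sup fun i => (Multiplicative.toAdd x i).natAbs, fun x hx i =>
      le_trans (Finset.le_sup (f := fun i => (Multiplicative.toAdd x i).natAbs) (Finset.mem_univ i))
        (Finset.le_sup (f := fun x => Finset.univ.sup fun i => (Multiplicative.toAdd x i).natAbs) hx)⟩
  set N : ℕ := 2 * B + 1 with hN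
  obtain ⟨n, hn⟩ : ∃ n : ℕ, 2 * ((N + 1) ^ r * (B + 1)) < p ^ n := pow_unbounded_of_one_lt _ hp.out.one_lt
  let g : (Fin r → ℤ) →+ ℤ :=
    AddMonoidHom.mk' (fun x => ∑ i, x i * (N : ℤ) ^ (i : ℕ)) fun x y => by
      simp [add_mul, Finset.sum_add_distrib]
  let f : Multiplicative (Fin r → ℤ) →* Cyc p n :=
    AddMonoidHom.toMultiplicative ((Int.castAddHom _).comp g)
  -- the map is injective on small vectors
  have hinj : ∀ (s : ℕ) (z : Fin s → ℤ), (∀ i, (z i).natAbs ≤ 2 * B) → (∑ i, z i * (N : ℤ) ^ (i : ℕ)) = 0 → z = 0 := by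
    intro s
    induction s with
    | zero => intro z _ _; exact funext fun i => i.elim0
    | succ s ih =>
      intro z hz h0
      rw [Fin.sum_univ_succ] at h0
      simp only [Fin.val_zero, pow_zero, _root_.mul_one, Fin.val_succ] at h0
      have h1 : (N : ℤ) ∣ z 0 := by
        refine ⟨-∑ i : Fin s, z i.succ * (N : ℤ) ^ (i : ℕ), ?_⟩
        rw [mul_neg, Finset.mul_sum, eq_neg_iff_add_eq_zero, ← h0]
        congr 1
        exact Finset.sum_congr rfl fun i _ => by ring
      have h2 : z 0 = 0 := Int.eq_zero_of_dvd_of_natAbs_lt_natAbs h1 (by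
        have := hz 0
        rw [Int.natAbs_natCast]
        omega)
      have h3 : (fun i : Fin s => z i.succ) = 0 := ih _ (fun i => hz _) (by
        rw [h2, zero_add] at h0
        have hN0 : (N : ℤ) ≠ 0 := Int.natCast_ne_zero.2 (Nat.succ_ne_zero _)
        refine (mul_eq_zero.1 (show (N : ℤ) * _ = 0 from ?_)).resolve_left hN0
        rw [Finset.mul_sum, ← h0]
        exact Finset.sum_congr rfl fun i _ => by ring)
      funext i
      exact Fin.cases h2 (fun j => congrFun h3 j) i
  have hbound : ∀ x : Fin r → ℤ, (∀ i, (x i).natAbs ≤ 2 * B) → (g x).natAbs < p ^ n := by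
    intro x hx
    have hb : ∀ (s : ℕ) (z : Fin s → ℤ), (∀ i, (z i).natAbs ≤ 2 * B) →
        (∑ i, z i * (N : ℤ) ^ (i : ℕ)).natAbs < (N + 1) ^ s * (B + 1) * 2 := by
      intro s
      induction s with
      | zero => intro z _; simp
      | succ s ih =>
        intro z hz
        rw [Fin.sum_univ_succ]
        simp only [Fin.val_zero, pow_zero, _root_.mul_one, Fin.val_succ]
        have e : (∑ i : Fin s, z i.succ * (N : ℤ) ^ ((i : ℕ) + 1)) = (N : ℤ) * ∑ i : Fin s, z i.succ * (N : ℤ) ^ (i : ℕ) := by
          rw [Finset.mul_sum]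
          exact Finset.sum_congr rfl fun i _ => by ring
        rw [e]
        refine lt_of_le_of_lt (Int.natAbs_add_le _ _) ?_
        rw [Int.natAbs_mul, Int.natAbs_natCast]
        have h1 := ih (fun i => z i.succ) fun i => hz _
        have h2 := hz 0
        have h3 : 1 ≤ (N + 1) ^ s := Nat.one_le_pow _ _ (Nat.succ_pos _)
        calc (z 0).natAbs + N * (∑ i : Fin s, z i.succ * (N : ℤ) ^ (i : ℕ)).natAbs
            ≤ 2 * B + N * ((N + 1) ^ s * (B + 1) * 2) := Nat.add_le_add h2 (Nat.mul_le_mul_left _ h1.le)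
          _ < (N + 1) ^ (s + 1) * (B + 1) * 2 := by
            rw [pow_succ]
            nlinarith
    have := hb r x hx
    show (∑ i, x i * (N : ℤ) ^ (i : ℕ)).natAbs < p ^ n
    nlinarith
  have hf : ∀ x ∈ S, ∀ y ∈ S, f x = f y → x = y := by
    intro x hx y hy hxy
    let d : Fin r → ℤ := Multiplicative.toAdd x - Multiplicative.toAdd y
    have hd : ∀ i, (d i).natAbs ≤ 2 * B := fun i => by
      have h1 := hB x hx i
      have h2 := hB y hy i
      have h3 := Int.natAbs_sub_le (Multiplicative.toAdd x i) (Multiplicative.toAdd y i)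
      show (Multiplicative.toAdd x i - Multiplicative.toAdd y i).natAbs ≤ _
      omega
    have h0 : ((g d : ℤ) : ZMod (p ^ n)) = 0 := by
      rw [map_sub, Int.cast_sub, sub_eq_zero]
      exact Multiplicative.ofAdd.injective hxy
    have h1 : g d = 0 := Int.eq_zero_of_dvd_of_natAbs_lt_natAbs
      ((ZMod.intCast_zmod_eq_zero_iff_dvd _ _).1 h0) (by rw [Int.natAbs_natCast]; exact hbound d hd)
    exact Multiplicative.toAdd.injective (sub_eq_zero.1 (hinj r d hd h1))
  have hψ := commute_wt_of_central _ hc (h n ((MonoidAlgebra.mapDomainBialgHom L f).comp φ)) (f a)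
  rw [wt_comp, Finset.sum_filter, Finset.sum_eq_single a (fun b hb hba => if_neg fun e => hba (hf b
    (Finset.mem_insert_of_mem hb) a (Finset.mem_insert_self _ _) e)) (fun ha => by
      rw [if_pos rfl, wt_eq_zero φ a ha]), if_pos rfl] at hψ
  exact hψ

end Groth.Agent.Torus37
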