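import Groth.Agent.Torus37.Sub
import Groth.Agent.Torus37.Reduce
import Groth.Agent.Torus37.CentralCase
import Groth.Agent.Dyn50.Embed

/-!
Over an infinite field of positive characteristic a smooth connected affine group which is not unipotent has a nontrivial torus.
-/

set_option autoImplicit false
set_option linter.unusedSectionVars false
set_option linter.style.haveILetI false

universe u

open scoped TensorProduct
open WithConv TensorProduct Groth.Agent.Dyn50

noncomputable section

namespace Groth.Agent.Torus37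

variable {k : Type u} [Field k]

local notation "Kb" => AlgebraicClosure k

theorem hasTorus_of_surjective {A C : Type u} [CommRing A] [HopfAlgebra k A] [CommRing C] [HopfAlgebra k C]
    (π : A →ₐc[k] C) (hπ : Function.Surjective π) (h : HasTorus k C) : HasTorus k A := by
  obtain ⟨B, _, _, F, hBfin, hBT, hBdom, hF⟩ := h
  refine ⟨B, inferInstance, inferInstance, F.comp π, hBfin, hBT, hBdom, fun h1 => hF ?_⟩
  refine WithConv.ofConv_injective (AlgHom.ext fun x => ?_)
  obtain ⟨a, rfl⟩ := hπ x
  refine (DFunLike.congr_fun (congrArg WithConv.ofConv h1) a).trans ?_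
  show algebraMap k B _ = algebraMap k B _
  exact congrArg _ (CoalgHomClass.counit_comp_apply π a).symm

variable (p : ℕ) [hp : Fact p.Prime] [CharP k p] [Infinite k]

/-- A noncentral homomorphism from a finite diagonalisable `p`-group gives a torus, by the smaller dimensional case. -/
theorem hasTorus_of_noncentral (d : ℕ)
    (IH : ∀ (C : Type u) [CommRing C] [HopfAlgebra k C], Good k Kb C → dimA k C < d →
      ¬ HopfRep.IsUnipotent k C → HasTorus k C) :
    ∀ (n : ℕ) (A : Type u) [CommRing A] [HopfAlgebra k A], Good k Kb A → dimA k A ≤ d →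
      ∀ φ : Kb ⊗[k] A →ₐc[Kb] MonoidAlgebra Kb (Cyc p n), ¬ IsCentralHom φ → HasTorus k A := by
  haveI : CharP Kb p := charP_of_injective_algebraMap (algebraMap k Kb).injective p
  intro n
  induction n with
  | zero =>
    intro A _ _ hA _ φ hφ
    haveI := hA.finiteType
    classical
    obtain ⟨N, c, hc, hgen⟩ := Dyn50.exists_matrix_gens (k := k) (A := A)
    haveI : Subsingleton (ZMod (p ^ 0)) := by rw [pow_zero]; infer_instance
    haveI : Subsingleton (Cyc p 0) := inferInstanceAs (Subsingleton (ZMod (p ^ 0)))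
    refine absurd (isCentralHom_of_wt φ hc hgen fun a => ?_) hφ
    have h := wt_sum φ (c := cL Kb c) (isRep_cL hc)
    rw [Finset.sum_eq_single a (fun b _ hb => absurd (Subsingleton.elim b a) hb) (fun ha => wt_eq_zero φ a ha)] at h
    rw [h, Matrix.map_one _ (map_zero _) (map_one _)]
    exact Commute.one_right _
  | succ n ih =>
    intro A _ _ hA hd φ hφ
    haveI := hA.smooth
    haveI := hA.finiteType
    haveI := hA.dom
    haveI := hA.isDomain
    haveI : IsNoetherianRing A := Algebra.FiniteType.isNoetherianRing k A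
    haveI : IsNoetherianRing (Kb ⊗[k] A) := Algebra.FiniteType.isNoetherianRing Kb _
    classical
    obtain ⟨N, c, hc, hgen⟩ := Dyn50.exists_matrix_gens (k := k) (A := A)
    haveI : Nonempty (Fin N) := by
      by_contra hne
      rw [not_nonempty_iff] at hne
      exact hφ (isCentralHom_of_wt φ hc hgen fun a => by
        show _ * _ = _ * _
        ext i
        exact hne.elim i)
    obtain ⟨e, he⟩ : ∃ e : ℕ, Module.finrank k (Matrix (Fin N) (Fin N) k) + N < p ^ e :=
      pow_unbounded_of_one_lt _ hp.out.one_lt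
    have hD : ∀ X ∈ lie k c, X ^ p ^ e ∈ lie k c := fun X hX => mem_lie_pow_char_pow hc p hX e
    have hS : ∀ X : Matrix (Fin N) (Fin N) k, Sep (X ^ p ^ e) := fun X => sep_pow p X (by omega)
    by_cases hcase : ∃ X ∈ lie k c, ∃ Y ∈ lie k c, adM (X ^ p ^ e) Y ≠ 0
    · obtain ⟨X, hX, hY⟩ := hcase
      obtain ⟨C, _, _, π, hπ, hC, hlt, hnu⟩ :=
        exists_smaller (L := Kb) hA hc (q := p ^ e) (by rw [Fintype.card_fin]; omega) (hD X hX) (hS X) hY
      exact hasTorus_of_surjective π hπ (IH C hC (lt_of_lt_of_le hlt hd) hnu)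
    push Not at hcase
    let S : Set (Matrix (Fin N) (Fin N) k) := (fun X => X ^ p ^ e) '' (lie k c : Set (Matrix (Fin N) (Fin N) k))
    let Alg := Algebra.adjoin k S
    have hScomm : ∀ Z ∈ S, Commute (gen c) (Z.map (algebraMap k A)) := by
      rintro _ ⟨X, hX, rfl⟩
      exact commute_of_central hc (hD X hX) (hS X) (hcase X hX)
    have hSS : ∀ Z ∈ S, ∀ Z' ∈ S, Z * Z' = Z' * Z := by
      rintro _ ⟨X, hX, rfl⟩ _ ⟨X', hX', rfl⟩
      have h := hcase X hX _ (hD X' hX')
      rw [adM_apply, sub_eq_zero] at h
      exact h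
    have hV : CentralAlg k c (Subalgebra.toSubmodule Alg) :=
      { one_mem := Alg.one_mem
        mul_mem := fun Z hZ Z' hZ' => Alg.mul_mem hZ hZ'
        mul_comm := fun Z hZ Z' hZ' => by
          letI := Algebra.adjoinCommRingOfComm k hSS
          exact congrArg Subtype.val (_root_.mul_comm (⟨Z, hZ⟩ : Alg) ⟨Z', hZ'⟩)
        commute := fun Z hZ => by
          change Z ∈ Alg at hZ
          induction hZ using Algebra.adjoin_induction with
          | mem x hx => exact hScomm x hx
          | algebraMap r =>
            rw [Algebra.algebraMap_eq_smul_one, show (r • (1 : Matrix (Fin N) (Fin N) k)).map (algebraMap k A) =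
              algebraMap k A r • (1 : Matrix (Fin N) (Fin N) A) by
                ext i j; by_cases h : i = j <;> simp [Matrix.one_apply, h]]
            exact (Commute.one_right _).smul_right _
          | add x y _ _ hx hy => rw [Matrix.map_add _ (map_add _)]; exact hx.add_right hy
          | mul x y _ _ hx hy => rw [Matrix.map_mul]; exact hx.mul_right hy }
    have hpow : ∀ X ∈ lie k c, X ^ p ^ e ∈ Subalgebra.toSubmodule Alg := fun X hX =>
      Algebra.subset_adjoin ⟨X, hX, rfl⟩
    haveI := isHopfIdeal_mIdeal hc hgen hV p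
    obtain ⟨A', _, _, j, hinj, hff, hA', hrange, hkills⟩ :=
      exists_quotient_hopf (mIdeal p c (Subalgebra.toSubmodule Alg)) (isNormal_mIdeal hc hgen hV p) hA
    haveI := hA'.isDomain
    haveI := hA'.finiteType
    have hj : ∀ a, j a ∈ SGA3a.NormalHopf.coinv (k := k) (mIdeal p c (Subalgebra.toSubmodule Alg)) :=
      fun a => hrange.subset (Set.mem_range_self a)
    obtain ⟨φ', hφ'⟩ := exists_divided p hc hgen hV hpow j hj φ
    have hnc := not_central_divided p hc hgen hV j hkills φ hφ φ' hφ'
    refine hasTorus_of_quotient p _ j hff hinj hrange hkills (fun R _ _ g h hg => ⟨?_, ?_⟩)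
      (ih A' hA' (le_trans (dimA_le_of_injective (j : A' →ₐ[k] A) hinj) hd) φ' hnc)
    · exact commute_of_kills hc hgen hV p hg h
    · exact pow_char_eq_one hc hgen hV p ((kills_mIdeal_iff p g.ofConv).1 hg)

include p in
/-- A group which is not unipotent has a torus. -/
theorem hasTorus_of_not_isUnipotent (A : Type u) [CommRing A] [HopfAlgebra k A] (hA : Good k Kb A)
    (hU : ¬ HopfRep.IsUnipotent k A) : HasTorus k A := by
  obtain ⟨d, hd⟩ : ∃ d, dimA k A = d := ⟨_, rfl⟩
  induction d using Nat.strong_induction_on generalizing A with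
  | _ d IH =>
    haveI := hA.finiteType
    by_cases h : ∀ (n : ℕ) (ψ : Kb ⊗[k] A →ₐc[Kb] MonoidAlgebra Kb (Cyc p n)), IsCentralHom ψ
    · obtain ⟨N, c, hc, hgen⟩ := Dyn50.exists_matrix_gens (k := k) (A := A)
      exact hasTorus_of_central p hA hU fun r φ => isCentralHom_of_cyc p φ hc hgen h
    · push Not at h
      obtain ⟨n, ψ, hψ⟩ := h
      exact hasTorus_of_noncentral p d (fun C _ _ hC hlt hnu => IH _ hlt C hC hnu rfl) n A hA hd.le ψ hψ

end Groth.Agent.Torus37
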