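import Groth.Agent.Torus37.Lie
import Mathlib.RingTheory.Bialgebra.MonoidAlgebra
import Mathlib.Data.ZMod.Basic
import Mathlib.FieldTheory.Finite.Basic

/-!
Homomorphisms from diagonalisable groups in matrix form: the orthogonal idempotents of the weights and their
differentials.
-/

set_option autoImplicit false
set_option linter.unusedSectionVars false
set_option linter.style.haveILetI false

universe u v

open scoped TensorProduct MonoidAlgebra
open TensorProduct

noncomputable section

namespace Groth.Agent.Torus37

variable {L : Type u} [Field L] {B : Type u} [CommRing B] [HopfAlgebra L B]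
variable {ι : Type} [Fintype ι] [DecidableEq ι] {c : ι → ι → B}
variable {M : Type v} [CommMonoid M] [DecidableEq M] (φ : B →ₐc[L] MonoidAlgebra L M)

/-- The weight idempotent. -/
def wt (c : ι → ι → B) (a : M) : Matrix ι ι L := Matrix.of fun i j => (φ (c i j)).coeff a

/-- A finite set containing all weights. -/
def wtSupp (c : ι → ι → B) : Finset M := Finset.univ.biUnion fun q : ι × ι => (φ (c q.1 q.2)).coeff.support

/-- A coefficient, linearly. -/
def coefL (L : Type u) [Field L] {M : Type v} (a : M) : MonoidAlgebra L M →ₗ[L] L where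
  toFun x := x.coeff a
  map_add' _ _ := by simp
  map_smul' _ _ := by simp

theorem wt_eq_zero (a : M) (ha : a ∉ wtSupp φ c) : wt φ c a = 0 := by
  ext i j
  by_contra h
  exact ha (Finset.mem_biUnion.2 ⟨(i, j), Finset.mem_univ _, Finsupp.mem_support_iff.2 h⟩)

theorem apply_eq_sum (i j : ι) :
    φ (c i j) = ∑ a ∈ wtSupp φ c, MonoidAlgebra.single a (wt φ c a i j) := by
  apply MonoidAlgebra.coeff_injective
  ext b
  rw [← Finsupp.applyAddHom_apply b]
  show (φ (c i j)).coeff b = coefL L b (∑ a ∈ wtSupp φ c, MonoidAlgebra.single a (wt φ c a i j))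
  rw [map_sum]
  simp only [coefL, LinearMap.coe_mk, AddHom.coe_mk, MonoidAlgebra.coeff_single, Finsupp.single_apply]
  rw [Finset.sum_ite_eq']
  split_ifs with h
  · rfl
  · exact congrFun (congrFun (wt_eq_zero φ b h) i) j

theorem wt_mul (hc : Comod33.Mat.IsRep (k := L) c) (a b : M) :
    wt φ c a * wt φ c b = if a = b then wt φ c a else 0 := by
  ext i j
  let P : MonoidAlgebra L M ⊗[L] MonoidAlgebra L M →ₗ[L] L :=
    (TensorProduct.lid L L).toLinearMap ∘ₗ TensorProduct.map (coefL L a) (coefL L b)
  have h1 : P (CoalgebraStruct.comul (R := L) (φ (c i j))) = (wt φ c a * wt φ c b) i j := by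
    rw [← CoalgHomClass.map_comp_comul_apply φ (c i j), hc.comul, map_sum, map_sum, Matrix.mul_apply]
    exact Finset.sum_congr rfl fun l _ => by simp [P, coefL, wt]
  have h2 : ∀ x : MonoidAlgebra L M, P (CoalgebraStruct.comul (R := L) x) = if a = b then x.coeff a else 0 := by
    intro x
    induction x using MonoidAlgebra.induction_linear with
    | zero => simp
    | add x y hx hy => simp only [map_add, hx, hy]; split_ifs <;> simp
    | single m r =>
      simp only [MonoidAlgebra.comul_single, CommSemiring.comul_apply, TensorProduct.map_tmul, P,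
        LinearMap.comp_apply, MonoidAlgebra.lsingle_apply, coefL, LinearMap.coe_mk, AddHom.coe_mk,
        MonoidAlgebra.coeff_single, Finsupp.single_apply, LinearEquiv.coe_coe, TensorProduct.lid_tmul, smul_eq_mul]
      split_ifs <;> simp_all
  rw [← h1, h2]
  split_ifs <;> simp [wt]

theorem wt_sum (hc : Comod33.Mat.IsRep (k := L) c) : ∑ a ∈ wtSupp φ c, wt φ c a = 1 := by
  ext i j
  have h := CoalgHomClass.counit_comp_apply φ (c i j)
  rw [hc.counit, apply_eq_sum φ i j, map_sum] at h
  rw [Matrix.sum_apply, Matrix.one_apply, ← h]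
  exact Finset.sum_congr rfl fun a _ => by simp [MonoidAlgebra.counit_single]

theorem wt_comp {N : Type v} [CommMonoid N] [DecidableEq N] (f : M →* N) (b : N) :
    wt ((MonoidAlgebra.mapDomainBialgHom L f).comp φ) c b = ∑ a ∈ (wtSupp φ c).filter (fun a => f a = b), wt φ c a := by
  ext i j
  show (MonoidAlgebra.mapDomainBialgHom L f (φ (c i j))).coeff b = _
  rw [apply_eq_sum φ i j, map_sum]
  show coefL L b (∑ a ∈ wtSupp φ c, _) = _
  rw [map_sum, Matrix.sum_apply, Finset.sum_filter]
  refine Finset.sum_congr rfl fun a _ => ?_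
  rw [MonoidAlgebra.mapDomainBialgHom_single]
  simp [coefL, Finsupp.single_apply]

section Differential

variable (χ : M → L)

/-- The differential along an additive character. -/
def wtE (c : ι → ι → B) : Matrix ι ι L := ∑ a ∈ wtSupp φ c, χ a • wt φ c a

/-- The derivation of an additive character. -/
def dChar : MonoidAlgebra L M →ₗ[L] L :=
  (Finsupp.linearCombination L χ).comp (MonoidAlgebra.coeffLinearEquiv L).toLinearMap

theorem dChar_single (a : M) (r : L) : dChar χ (MonoidAlgebra.single a r) = r * χ a := by
  show Finsupp.linearCombination L χ (MonoidAlgebra.single a r).coeff = _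
  rw [MonoidAlgebra.coeff_single, Finsupp.linearCombination_single, smul_eq_mul]

variable {χ} (hχ : ∀ a b, χ (a * b) = χ a + χ b)

include hχ in
theorem isDer_dChar : IsDer (R := L) ((dChar χ).comp (φ : B →ₗ[L] MonoidAlgebra L M)) := by
  have key : ∀ x y : MonoidAlgebra L M, dChar χ (x * y) =
      CoalgebraStruct.counit (R := L) x * dChar χ y + CoalgebraStruct.counit (R := L) y * dChar χ x := by
    intro x y
    induction x using MonoidAlgebra.induction_linear with
    | zero => simp
    | add x x' hx hx' => simp only [add_mul, map_add, hx, hx']; ring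
    | single a r =>
      induction y using MonoidAlgebra.induction_linear with
      | zero => simp
      | add y y' hy hy' => simp only [mul_add, map_add, hy, hy']; ring
      | single b s =>
        simp only [MonoidAlgebra.single_mul_single, dChar_single, MonoidAlgebra.counit_single,
          CommSemiring.counit_apply, hχ]
        ring
  intro a b
  show dChar χ (φ (a * b)) = _
  rw [map_mul, key, CoalgHomClass.counit_comp_apply, CoalgHomClass.counit_comp_apply]
  rfl

theorem mat_dChar : mat c ((dChar χ).comp (φ : B →ₗ[L] MonoidAlgebra L M)) = wtE φ χ c := by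
  ext i j
  show dChar χ (φ (c i j)) = _
  rw [apply_eq_sum φ i j, map_sum, wtE, Matrix.sum_apply]
  exact Finset.sum_congr rfl fun a _ => by rw [dChar_single, Matrix.smul_apply, smul_eq_mul, mul_comm]

include hχ in
theorem wtE_mem_lie : wtE φ χ c ∈ lie L c :=
  (mem_lie_iff _).2 ⟨_, isDer_dChar φ hχ, mat_dChar φ⟩

theorem wtE_mul_wt (hc : Comod33.Mat.IsRep (k := L) c) (a : M) : wtE φ χ c * wt φ c a = χ a • wt φ c a := by
  rw [wtE, Finset.sum_mul]
  simp only [smul_mul_assoc, wt_mul φ hc, smul_ite, smul_zero]
  rw [Finset.sum_ite_eq']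
  split_ifs with h
  · rfl
  · rw [wt_eq_zero φ a h, smul_zero]

theorem pow_wtE (hc : Comod33.Mat.IsRep (k := L) c) {n : ℕ} (hn : n ≠ 0) (h : ∀ a, χ a ^ n = χ a) :
    wtE φ χ c ^ n = wtE φ χ c := by
  have key : ∀ m, wtE φ χ c ^ (m + 1) = ∑ a ∈ wtSupp φ c, χ a ^ (m + 1) • wt φ c a := by
    intro m
    induction m with
    | zero => simp [wtE]
    | succ m ih =>
      rw [pow_succ' (wtE φ χ c), ih, Finset.mul_sum]
      refine Finset.sum_congr rfl fun a _ => ?_
      rw [mul_smul_comm, wtE_mul_wt φ hc, smul_smul, ← pow_succ]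
  obtain ⟨m, rfl⟩ := Nat.exists_eq_succ_of_ne_zero hn
  rw [key]
  exact Finset.sum_congr rfl fun a _ => by rw [h]

end Differential

end Groth.Agent.Torus37
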