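import Groth.Agent.SGA3a.NormalHopf
import Groth.Agent.AlgGrp79.AffineQuot
import Groth.Agent.Comod33.HopfFlat
import Groth.Agent.Dyn50.Embed
import Groth.Agent.S0115
import Mathlib.RingTheory.RingHom.FaithfullyFlat
import Mathlib.RingTheory.Smooth.Basic

/-!
The coordinate ring of the quotient by a normal Hopf ideal, with the properties inherited from the group.
-/

set_option autoImplicit false
set_option linter.unusedSectionVars false
set_option linter.style.haveILetI false

universe u

open CategoryTheory AlgebraicGeometry
open scoped TensorProduct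
open WithConv TensorProduct Groth.Agent.Dyn50

noncomputable section

namespace Groth.Agent.Torus37

variable {k : Type u} [Field k] {A : Type u} [CommRing A] [HopfAlgebra k A]

/-- Smooth with geometrically integral coordinates. -/
structure Good (k L : Type u) [Field k] [Field L] [Algebra k L] (A : Type u) [CommRing A] [Algebra k A] : Prop where
  smooth : Algebra.Smooth k A
  dom : IsDomain (L ⊗[k] A)

theorem Good.finiteType {L : Type u} [Field L] [Algebra k L] {B : Type u} [CommRing B] [Algebra k B]
    (h : Good k L B) : Algebra.FiniteType k B := by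
  haveI := h.smooth
  infer_instance

theorem Good.isDomain {L : Type u} [Field L] [Algebra k L] {B : Type u} [CommRing B] [Algebra k B]
    (h : Good k L B) : IsDomain B := by
  haveI := h.dom
  exact Function.Injective.isDomain (Algebra.TensorProduct.includeRight : B →ₐ[k] L ⊗[k] B)
    (Algebra.TensorProduct.includeRight_injective (algebraMap k L).injective)

theorem smooth_of_faithfullyFlat (B A : Type u) [CommRing B] [Algebra k B] [CommRing A] [Algebra k A] [Algebra B A]
    [IsScalarTower k B A] [Module.FaithfullyFlat B A] [Algebra.Smooth k A] [Algebra.FiniteType k B] :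
    Algebra.Smooth k B := by
  haveI : Algebra.FinitePresentation k B := Algebra.FinitePresentation.of_finiteType.1 inferInstance
  haveI : Algebra.FinitePresentation B A := Algebra.FinitePresentation.of_restrict_scalars_finitePresentation k B A
  let f : Spec (CommRingCat.of A) ⟶ Spec (CommRingCat.of B) := Spec.map (CommRingCat.ofHom (algebraMap B A))
  let q : Spec (CommRingCat.of B) ⟶ Spec (CommRingCat.of k) := Spec.map (CommRingCat.ofHom (algebraMap k B))
  haveI : Flat f := by
    rw [HasRingHomProperty.Spec_iff (P := @Flat)]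
    exact RingHom.flat_algebraMap_iff.2 inferInstance
  haveI : Surjective f := ⟨PrimeSpectrum.comap_surjective_of_faithfullyFlat⟩
  haveI : LocallyOfFinitePresentation f := by
    rw [HasRingHomProperty.Spec_iff (P := @LocallyOfFinitePresentation)]
    exact RingHom.finitePresentation_algebraMap.2 inferInstance
  haveI : Smooth (f ≫ q) := by
    rw [← Spec.map_comp, HasRingHomProperty.Spec_iff (P := @Smooth)]
    show RingHom.Smooth ((algebraMap B A).comp (algebraMap k B))
    rw [← IsScalarTower.algebraMap_eq]
    exact RingHom.smooth_algebraMap.2 inferInstance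
  have hq : Smooth q := Groth.Agent.S0115.result f q
  rw [HasRingHomProperty.Spec_iff (P := @Smooth)] at hq
  exact RingHom.smooth_algebraMap.1 hq

/-- The coordinates of the quotient. -/
theorem exists_quotient_hopf [Algebra.FiniteType k A] (I : Ideal A) [I.IsHopfIdeal k]
    (hI : SGA3.IsNormalHopfIdeal k A I) {L : Type u} [Field L] [Algebra k L] (hA : Good k L A) :
    ∃ (A' : Type u) (_ : CommRing A') (_ : HopfAlgebra k A') (j : A' →ₐc[k] A),
      Function.Injective j ∧ (j : A' →+* A).FaithfullyFlat ∧ Good k L A' ∧
      (Set.range j = (SGA3a.NormalHopf.coinv (k := k) I : Set A)) ∧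
      ∀ (R : Type u) [CommRing R] [Algebra k R] (g : A →ₐ[k] R),
        (∀ a ∈ I, g a = 0) ↔ g.comp (j : A' →ₐ[k] A) = (1 : WithConv (A' →ₐ[k] R)).ofConv := by
  classical
  haveI := hA.smooth
  obtain ⟨n, φ, hφ⟩ := AlgGrp79.AffineQuot.exists_rep_hopf I hI
  let B : Subalgebra k A := (φ : CoordGrp.GLn n k →ₐ[k] A).range
  have hB : Comod33.SubHopf.IsSubHopf B := Comod33.HopfFlat.isSubHopf_range φ
  letI := Comod33.SubHopf.hopfAlgebra hB
  let j : B →ₐc[k] A := Comod33.SubHopf.incl hB
  haveI : Algebra.FiniteType k B :=
    Algebra.FiniteType.of_surjective (φ : CoordGrp.GLn n k →ₐ[k] A).rangeRestrict (AlgHom.rangeRestrict_surjective _)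
  have hkill : ∀ (R : Type u) [CommRing R] [Algebra k R] (g : A →ₐ[k] R),
      (∀ a ∈ I, g a = 0) ↔ g.comp (j : B →ₐ[k] A) = (1 : WithConv (B →ₐ[k] R)).ofConv := fun R _ _ g => by
    rw [hφ R g]
    constructor
    · intro h
      refine AlgHom.ext ?_
      rintro ⟨_, x, rfl⟩
      refine (DFunLike.congr_fun h x).trans ?_
      show algebraMap k R _ = algebraMap k R _
      exact congrArg _ (CoalgHomClass.counit_comp_apply φ x).symm
    · intro h
      refine AlgHom.ext fun x => ?_
      refine (DFunLike.congr_fun h ⟨φ x, x, rfl⟩).trans ?_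
      show algebraMap k R _ = algebraMap k R _
      exact congrArg _ (CoalgHomClass.counit_comp_apply φ x)
  have hIB : I = SGA3.augIdealSpan k A B := by
    refine le_antisymm (fun x hx => ?_) (Ideal.span_le.2 ?_)
    · refine Ideal.Quotient.eq_zero_iff_mem.1 (((hkill _ (Ideal.Quotient.mkₐ k _)).2 (AlgHom.ext fun b => ?_)) x hx)
      have h0 : Ideal.Quotient.mk (SGA3.augIdealSpan k A B)
          ((b : A) - algebraMap k A (CoalgebraStruct.counit (R := k) (b : A))) = 0 :=
        Ideal.Quotient.eq_zero_iff_mem.2 (Ideal.subset_span ⟨B.sub_mem b.2 (B.algebraMap_mem _), by simp⟩)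
      rw [map_sub, sub_eq_zero] at h0
      exact h0
    · rintro b ⟨hb, hb0⟩
      refine Ideal.Quotient.eq_zero_iff_mem.1 ?_
      have h1 := DFunLike.congr_fun ((hkill _ (Ideal.Quotient.mkₐ k I)).1 fun a ha => Ideal.Quotient.eq_zero_iff_mem.2 ha)
        ⟨b, hb⟩
      refine h1.trans ?_
      show algebraMap k (A ⧸ I) (CoalgebraStruct.counit (R := k) b) = 0
      rw [hb0, map_zero]
  have hBC : B = SGA3a.NormalHopf.coinv (k := k) I := by
    rw [hIB]
    exact SGA3a.NormalHopf.eq_coinv_augIdealSpan ((Comod33.SubHopf.isSubHopf_iff B).1 hB)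
  haveI : Module.FaithfullyFlat B A := Comod33.HopfFlat.faithfullyFlat_of_isSubHopf hB
  refine ⟨B, inferInstance, inferInstance, j, Subtype.val_injective,
    Comod33.HopfFlat.faithfullyFlat_of_injective j Subtype.val_injective,
    ⟨smooth_of_faithfullyFlat B A, ?_⟩, ?_, hkill⟩
  · haveI := hA.dom
    exact Function.Injective.isDomain (Algebra.TensorProduct.map (AlgHom.id k L) B.val)
      (Comod33.SubHopf.map_injective Function.injective_id Subtype.val_injective)
  · show Set.range (Subtype.val : B → A) = _
    rw [Subtype.range_coe_subtype, hBC]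
    rfl

end Groth.Agent.Torus37
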