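import Groth.Agent.Torus37.Stab
import Mathlib.Algebra.MvPolynomial.Funext
import Mathlib.Algebra.MvPolynomial.CommRing

/-!
Matrices with coefficients in an algebra lying in the span of a space of scalar matrices; polynomial identities over
an infinite field.
-/

set_option autoImplicit false
set_option linter.unusedSectionVars false
set_option linter.style.haveILetI false

universe u

open scoped TensorProduct
open WithConv TensorProduct

noncomputable section

namespace Groth.Agent.Torus37

variable {k : Type u} [Field k] {ι : Type} [Fintype ι] [DecidableEq ι]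
variable {R : Type u} [CommRing R] [Algebra k R]

/-- Membership in the span of scalar matrices. -/
def InSpan (V : Submodule k (Matrix ι ι k)) (G : Matrix ι ι R) : Prop :=
  G ∈ Submodule.span R ((fun Z : Matrix ι ι k => Z.map (algebraMap k R)) '' (V : Set (Matrix ι ι k)))

variable {V : Submodule k (Matrix ι ι k)}

theorem inSpan_map {Z : Matrix ι ι k} (h : Z ∈ V) : InSpan V (Z.map (algebraMap k R)) :=
  Submodule.subset_span ⟨Z, h, rfl⟩

theorem InSpan.sum {α : Type*} {s : Finset α} {G : α → Matrix ι ι R} (h : ∀ a ∈ s, InSpan V (G a)) :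
    InSpan V (∑ a ∈ s, G a) := Submodule.sum_mem _ h

theorem InSpan.mono {W : Submodule k (Matrix ι ι k)} (hle : V ≤ W) {G : Matrix ι ι R} (h : InSpan V G) :
    InSpan W G := Submodule.span_mono (Set.image_mono hle) h

theorem inSpan_one (h1 : (1 : Matrix ι ι k) ∈ V) : InSpan V (1 : Matrix ι ι R) := by
  have := inSpan_map (R := R) h1
  rwa [Matrix.map_one _ (map_zero _) (map_one _)] at this

theorem InSpan.mul (hmul : ∀ Z ∈ V, ∀ Z' ∈ V, Z * Z' ∈ V) {G H : Matrix ι ι R} (hG : InSpan V G) (hH : InSpan V H) :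
    InSpan V (G * H) := by
  refine Submodule.span_induction₂ (p := fun x y _ _ => InSpan V (x * y)) ?_ ?_ ?_ ?_ ?_ ?_ ?_ hG hH
  · rintro _ _ ⟨Z, hZ, rfl⟩ ⟨Z', hZ', rfl⟩
    show InSpan V (Z.map (algebraMap k R) * Z'.map (algebraMap k R))
    rw [← Matrix.map_mul]
    exact inSpan_map (hmul Z hZ Z' hZ')
  · intro y _; rw [zero_mul]; exact Submodule.zero_mem _
  · intro x _; rw [mul_zero]; exact Submodule.zero_mem _
  · intro x y z _ _ _ hx hy; rw [add_mul]; exact Submodule.add_mem _ hx hy
  · intro x y z _ _ _ hx hy; rw [mul_add]; exact Submodule.add_mem _ hx hy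
  · intro r x y _ _ h; rw [smul_mul_assoc]; exact Submodule.smul_mem _ r h
  · intro r x y _ _ h; rw [mul_smul_comm]; exact Submodule.smul_mem _ r h

theorem InSpan.pow (h1 : (1 : Matrix ι ι k) ∈ V) (hmul : ∀ Z ∈ V, ∀ Z' ∈ V, Z * Z' ∈ V) {G : Matrix ι ι R}
    (hG : InSpan V G) : ∀ n : ℕ, InSpan V (G ^ n)
  | 0 => by rw [pow_zero]; exact inSpan_one h1
  | n + 1 => by rw [pow_succ]; exact (InSpan.pow h1 hmul hG n).mul hmul hG

theorem InSpan.map {S : Type u} [CommRing S] [Algebra k S] (g : R →ₐ[k] S) {G : Matrix ι ι R} (hG : InSpan V G) :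
    InSpan V (G.map g) := by
  refine Submodule.span_induction (p := fun x _ => InSpan V (x.map g)) ?_ ?_ ?_ ?_ hG
  · rintro _ ⟨Z, hZ, rfl⟩
    show InSpan V ((Z.map (algebraMap k R)).map g)
    rw [show (Z.map (algebraMap k R)).map g = Z.map (algebraMap k S) by ext i j; simp]
    exact inSpan_map hZ
  · rw [Matrix.map_zero _ (map_zero g)]; exact Submodule.zero_mem _
  · intro x y _ _ hx hy; rw [Matrix.map_add _ (map_add g)]; exact Submodule.add_mem _ hx hy
  · intro r x _ hx
    rw [show (r • x).map g = g r • x.map g by ext i j; simp]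
    exact Submodule.smul_mem _ _ hx

theorem InSpan.commute {M : Matrix ι ι R} (h : ∀ Z ∈ V, Commute M (Z.map (algebraMap k R))) {G : Matrix ι ι R}
    (hG : InSpan V G) : Commute M G := by
  refine Submodule.span_induction (p := fun x _ => Commute M x) ?_ ?_ ?_ ?_ hG
  · rintro _ ⟨Z, hZ, rfl⟩; exact h Z hZ
  · exact Commute.zero_right _
  · intro x y _ _ hx hy; exact hx.add_right hy
  · intro r x _ hx; exact hx.smul_right r

theorem exists_projOn (V : Submodule k (Matrix ι ι k)) :
    ∃ P : Matrix ι ι k →ₗ[k] Matrix ι ι k, (∀ Z, P Z ∈ V) ∧ ∀ Z ∈ V, P Z = Z := by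
  obtain ⟨q, hq⟩ := LinearMap.exists_extend (p := V) (LinearMap.id : V →ₗ[k] V)
  refine ⟨V.subtype.comp q, fun Z => (q Z).2, fun Z hZ => ?_⟩
  have h := DFunLike.congr_fun hq ⟨Z, hZ⟩
  exact congrArg Subtype.val h

/-- A chosen projection onto a space of matrices. -/
def projOn (V : Submodule k (Matrix ι ι k)) : Matrix ι ι k →ₗ[k] Matrix ι ι k := (exists_projOn V).choose

theorem projOn_mem (Z : Matrix ι ι k) : projOn V Z ∈ V := (exists_projOn V).choose_spec.1 Z

theorem projOn_eq {Z : Matrix ι ι k} (h : Z ∈ V) : projOn V Z = Z := (exists_projOn V).choose_spec.2 Z h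

theorem ext'_map_algebraMap (f : Matrix ι ι k →ₗ[k] Matrix ι ι k) (Z : Matrix ι ι k) :
    ext' f (Z.map (algebraMap k R)) = (f Z).map (algebraMap k R) := by
  conv_rhs => rw [Matrix.matrix_eq_sum_single Z]
  ext a b
  simp only [ext', Matrix.sum_apply, Matrix.smul_apply, smul_eq_mul, Matrix.map_apply, map_sum]
  refine Finset.sum_congr rfl fun i _ => Finset.sum_congr rfl fun j _ => ?_
  rw [show Matrix.single i j (Z i j) = Z i j • Matrix.single i j (1 : k) by
    rw [Matrix.smul_single, smul_eq_mul, _root_.mul_one], map_smul, Matrix.smul_apply, smul_eq_mul, map_mul]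

theorem ext'_add (f : Matrix ι ι k →ₗ[k] Matrix ι ι k) (G H : Matrix ι ι R) : ext' f (G + H) = ext' f G + ext' f H := by
  simp only [ext', Matrix.add_apply, add_smul, Finset.sum_add_distrib]

theorem ext'_smul (f : Matrix ι ι k →ₗ[k] Matrix ι ι k) (r : R) (G : Matrix ι ι R) : ext' f (r • G) = r • ext' f G := by
  simp only [ext', Matrix.smul_apply, Finset.smul_sum, smul_smul, smul_eq_mul]

theorem map_ext'_alg {S : Type u} [CommRing S] [Algebra k S] (f : Matrix ι ι k →ₗ[k] Matrix ι ι k) (g : R →ₐ[k] S)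
    (G : Matrix ι ι R) : (ext' f G).map g = ext' f (G.map g) := by
  ext a b
  simp [ext', Matrix.sum_apply]

theorem inSpan_iff {G : Matrix ι ι R} : InSpan V G ↔ ext' (projOn V) G = G := by
  constructor
  · intro hG
    refine Submodule.span_induction (p := fun x _ => ext' (projOn V) x = x) ?_ ?_ ?_ ?_ hG
    · rintro _ ⟨Z, hZ, rfl⟩
      show ext' (projOn V) (Z.map (algebraMap k R)) = Z.map (algebraMap k R)
      rw [ext'_map_algebraMap, projOn_eq hZ]
    · simp [ext']
    · intro x y _ _ hx hy; rw [ext'_add, hx, hy]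
    · intro r x _ hx; rw [ext'_smul, hx]
  · intro h
    rw [← h]
    exact InSpan.sum fun i _ => InSpan.sum fun j _ => Submodule.smul_mem _ _ (inSpan_map (projOn_mem _))

theorem inSpan_of_dual {G : Matrix ι ι R} (h : ∀ φ : R →ₗ[k] k, G.map φ ∈ V) : InSpan V G :=
  inSpan_iff.2 (eq_of_forall_dual (k := k) fun φ => by rw [map_ext', projOn_eq (h φ)])

theorem add_pow_char_matrix (p : ℕ) [Fact p.Prime] [CharP k p] {M N : Matrix ι ι R} (h : Commute M N) :
    (M + N) ^ p = M ^ p + N ^ p := by
  obtain ⟨r, hr⟩ := h.exists_add_pow_prime_eq (Fact.out : p.Prime)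
  rw [hr, show ((p : ℕ) : Matrix ι ι R) = 0 by
    rw [← map_natCast (algebraMap k (Matrix ι ι R)), CharP.cast_eq_zero, map_zero]]
  simp

/-- A matrix in a commutative space with entries killed by Frobenius is killed by Frobenius. -/
theorem InSpan.pow_char_eq_zero (p : ℕ) [Fact p.Prime] [CharP k p]
    (hcomm : ∀ Z ∈ V, ∀ Z' ∈ V, Z * Z' = Z' * Z) {G : Matrix ι ι R} (hG : InSpan V G) (he : ∀ i j, G i j ^ p = 0) :
    G ^ p = 0 := by
  have h := inSpan_iff.1 hG
  rw [← h, ext', ← Finset.univ.sum_product' Finset.univ (fun i j => G i j • (projOn V (Matrix.single i j 1)).map (algebraMap k R))]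
  generalize (Finset.univ ×ˢ Finset.univ : Finset (ι × ι)) = s
  induction s using Finset.induction with
  | empty => rw [Finset.sum_empty, zero_pow (Fact.out : p.Prime).ne_zero]
  | insert a s ha ih =>
    rw [Finset.sum_insert ha, add_pow_char_matrix (k := k) p, ih, smul_pow, he, zero_smul, add_zero]
    refine Commute.sum_right _ _ _ fun b _ => Commute.smul_left (Commute.smul_right ?_ _) _
    show _ * _ = _ * _
    rw [← Matrix.map_mul, ← Matrix.map_mul, hcomm _ (projOn_mem _) _ (projOn_mem _)]

/-- A polynomial identity on rational matrices holds with coefficients. -/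
theorem inSpan_pow_of_forall [Infinite k] {W : Submodule k (Matrix ι ι k)} {q : ℕ} (h : ∀ X ∈ W, X ^ q ∈ V)
    {G : Matrix ι ι R} (hG : InSpan W G) : InSpan V (G ^ q) := by
  let S := MvPolynomial (ι × ι) k
  let Z : Matrix ι ι S := ext' (projOn W) (Matrix.of fun i j => MvPolynomial.X (i, j))
  have hZ : InSpan V (Z ^ q) := by
    refine inSpan_iff.2 ?_
    refine Matrix.ext fun a b => ?_
    refine MvPolynomial.funext (R := k) fun x => ?_
    let g : S →ₐ[k] k := MvPolynomial.aeval x
    have hg : ∀ M : Matrix ι ι S, MvPolynomial.eval x (M a b) = (M.map g) a b := fun M => rfl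
    have h1 : (Z ^ q).map g = (projOn W (Matrix.of fun i j => x (i, j))) ^ q := by
      rw [show (Z ^ q).map g = (g.mapMatrix (m := ι)) (Z ^ q) from rfl, map_pow]
      congr 1
      show Z.map g = _
      rw [show Z = ext' (projOn W) (Matrix.of fun i j => (MvPolynomial.X (i, j) : S)) from rfl, map_ext'_alg,
        show (Matrix.of fun i j => (MvPolynomial.X (i, j) : S)).map g =
          (Matrix.of fun i j => x (i, j)).map (algebraMap k k) by ext i j; exact MvPolynomial.aeval_X _ _, ext'_map_algebraMap]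
      rfl
    rw [hg, hg, map_ext'_alg, h1]
    have hmem := h _ (projOn_mem (V := W) (Matrix.of fun i j => x (i, j)))
    rw [show (projOn W (Matrix.of fun i j => x (i, j))) ^ q =
      ((projOn W (Matrix.of fun i j => x (i, j))) ^ q).map (algebraMap k k) from rfl, ext'_map_algebraMap,
      projOn_eq hmem]
  let g : S →ₐ[k] R := MvPolynomial.aeval fun q : ι × ι => G q.1 q.2
  have h2 : Z.map g = G := by
    rw [map_ext'_alg, show (Matrix.of fun i j => (MvPolynomial.X (i, j) : S)).map g = G by ext i j; simp only [Matrix.map_apply, Matrix.of_apply]; exact MvPolynomial.aeval_X _ _]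
    exact inSpan_iff.1 hG
  have h3 := hZ.map g
  rwa [show (Z ^ q).map g = (g.mapMatrix (m := ι)) (Z ^ q) from rfl, map_pow,
    show (g.mapMatrix (m := ι)) Z = Z.map g from rfl, h2] at h3

end Groth.Agent.Torus37
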