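import Groth.Agent.Torus37.Lie
import Mathlib.RingTheory.Smooth.Basic
import Mathlib.RingTheory.Filtration
import Mathlib.LinearAlgebra.Eigenspace.Basic
import Mathlib.RingTheory.HopfAlgebra.Quotient

/-!
The stabiliser of a semisimple element of the Lie algebra is smooth, and is everything when the element is central
in the Lie algebra.
-/

set_option autoImplicit false
set_option linter.unusedSectionVars false
set_option linter.style.haveILetI false

universe u

open scoped TensorProduct
open WithConv TensorProduct Groth.Agent.Dyn50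

noncomputable section

namespace Groth.Agent.Torus37

variable {k : Type u} [Field k] {A : Type u} [CommRing A] [HopfAlgebra k A]
variable {ι : Type} [Fintype ι] [DecidableEq ι] {c : ι → ι → A}

/-- The bracket with a matrix. -/
def adM (D : Matrix ι ι k) : Matrix ι ι k →ₗ[k] Matrix ι ι k := LinearMap.mulLeft k D - LinearMap.mulRight k D

theorem adM_apply (D Z : Matrix ι ι k) : adM D Z = D * Z - Z * D := rfl

/-- The bracket with `D` is separable. -/
def Sep (D : Matrix ι ι k) : Prop := ∀ Z, adM D (adM D Z) = 0 → adM D Z = 0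

theorem sep_pow (p : ℕ) [Fact p.Prime] [CharP k p] [Nonempty ι] (X : Matrix ι ι k) {e : ℕ}
    (he : Module.finrank k (Matrix ι ι k) ≤ p ^ e) : Sep (X ^ p ^ e) := by
  have h : adM (X ^ p ^ e) = adM X ^ p ^ e := (adOp_pow_char p X e).symm
  intro Z hZ
  rw [h] at hZ ⊢
  have h1 : Z ∈ LinearMap.ker (adM X ^ (p ^ e + p ^ e)) := by
    rw [LinearMap.mem_ker, pow_add]; exact hZ
  rw [Module.End.ker_pow_eq_ker_pow_finrank_of_le (le_add_right he),
    ← Module.End.ker_pow_eq_ker_pow_finrank_of_le he, LinearMap.mem_ker] at h1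
  exact h1

/-- The universal point in matrix form. -/
def gen (c : ι → ι → A) : Matrix ι ι A := Matrix.of c

/-- The stabiliser of a matrix. -/
def stabIdeal (c : ι → ι → A) (D : Matrix ι ι k) : Ideal A :=
  Ideal.span (Set.range fun q : ι × ι =>
    (gen c * D.map (algebraMap k A) - D.map (algebraMap k A) * gen c) q.1 q.2)

theorem ev_gen {R : Type u} [CommRing R] [Algebra k R] (g : A →ₐ[k] R) :
    (gen c).map g = Comod33.Mat.ev g c := rfl

theorem map_algebraMap_map {R : Type u} [CommRing R] [Algebra k R] (g : A →ₐ[k] R) (D : Matrix ι ι k) :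
    (D.map (algebraMap k A)).map g = D.map (algebraMap k R) := by
  ext i j; simp

theorem kills_stabIdeal_iff {R : Type u} [CommRing R] [Algebra k R] (g : A →ₐ[k] R) (D : Matrix ι ι k) :
    (∀ a ∈ stabIdeal c D, g a = 0) ↔
      Comod33.Mat.ev g c * D.map (algebraMap k R) = D.map (algebraMap k R) * Comod33.Mat.ev g c := by
  rw [stabIdeal]
  have hsub : ∀ i j, g ((gen c * D.map (algebraMap k A) - D.map (algebraMap k A) * gen c) i j) =
      (Comod33.Mat.ev g c * D.map (algebraMap k R) - D.map (algebraMap k R) * Comod33.Mat.ev g c) i j := by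
    intro i j
    rw [← ev_gen g, ← map_algebraMap_map g D, ← Matrix.map_mul, ← Matrix.map_mul, ← Matrix.map_sub _ (map_sub g)]
    rfl
  constructor
  · intro h
    rw [← sub_eq_zero]
    ext i j
    rw [← hsub]
    exact h _ (Ideal.subset_span ⟨(i, j), rfl⟩)
  · intro h a ha
    refine Submodule.span_induction (fun x hx => ?_) (map_zero g) (fun x y _ _ hx hy => by rw [map_add, hx, hy, add_zero])
      (fun r x _ hx => by rw [smul_eq_mul, map_mul, hx, mul_zero]) ha
    obtain ⟨⟨i, j⟩, rfl⟩ := hx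
    rw [hsub, h, sub_self]
    rfl

/-- The stabiliser on points. -/
def stabPts (hc : Comod33.Mat.IsRep (k := k) c) (D : Matrix ι ι k) (R : Type u) [CommRing R] [Algebra k R] :
    Subgroup (WithConv (A →ₐ[k] R)) where
  carrier := {g | Commute (Comod33.Mat.ev g.ofConv c) (D.map (algebraMap k R))}
  one_mem' := by
    show Commute (Comod33.Mat.ev (1 : WithConv (A →ₐ[k] R)).ofConv c) _
    rw [Comod33.Mat.ev_one hc]
    exact Commute.one_left _
  mul_mem' {g h} hg hh := by
    show Commute (Comod33.Mat.ev (g * h).ofConv c) _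
    have e := Comod33.Mat.ev_mul hc g.ofConv h.ofConv
    rw [toConv_ofConv, toConv_ofConv] at e
    rw [e]
    exact Commute.mul_left hg hh
  inv_mem' {g} hg := by
    show Commute (Comod33.Mat.ev g⁻¹.ofConv c) _
    have e1 := Comod33.Mat.ev_mul hc g.ofConv g⁻¹.ofConv
    rw [toConv_ofConv, toConv_ofConv, mul_inv_cancel, Comod33.Mat.ev_one hc] at e1
    have e2 := Comod33.Mat.ev_mul hc g⁻¹.ofConv g.ofConv
    rw [toConv_ofConv, toConv_ofConv, inv_mul_cancel, Comod33.Mat.ev_one hc] at e2
    exact Commute.units_inv_left (u := ⟨_, _, e1.symm, e2.symm⟩) hg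

theorem isHopfIdeal_stabIdeal (hc : Comod33.Mat.IsRep (k := k) c) (D : Matrix ι ι k) :
    (stabIdeal c D).IsHopfIdeal k :=
  isHopfIdeal_of_subgroup _ (fun R _ _ => stabPts hc D R) fun R _ _ g => kills_stabIdeal_iff g D

/-- A derivation whose matrix commutes with `D` kills the ideal of the stabiliser. -/
theorem der_stabIdeal_eq_zero (hc : Comod33.Mat.IsRep (k := k) c) {D : Matrix ι ι k} {δ : A →ₗ[k] k} (hδ : IsDer δ)
    (hcomm : mat c δ * D = D * mat c δ) (a : A) (ha : a ∈ stabIdeal c D) : δ a = 0 := by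
  refine (Submodule.span_induction (p := fun x _ => δ x = 0 ∧ aug k A x = 0) (fun x hx => ?_) ⟨map_zero δ, map_zero _⟩
    (fun x y _ _ hx hy => ⟨by rw [map_add, hx.1, hy.1, add_zero], by rw [map_add, hx.2, hy.2, add_zero]⟩)
    (fun r x _ hx => ⟨by rw [smul_eq_mul, hδ, hx.1, hx.2, smul_zero, zero_smul, add_zero],
      by rw [smul_eq_mul, map_mul, hx.2, mul_zero]⟩) ha).1
  obtain ⟨⟨i, j⟩, rfl⟩ := hx
  constructor
  · have : ∀ Z : Matrix ι ι A, Z.map δ i j = δ (Z i j) := fun Z => rfl
    simp only [Matrix.sub_apply, Matrix.mul_apply, map_sub, map_sum, gen, Matrix.of_apply, Matrix.map_apply]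
    have h1 : ∀ (r : k) (x : A), δ (x * algebraMap k A r) = δ x * r := fun r x => by
      rw [mul_comm x, ← Algebra.smul_def, map_smul, smul_eq_mul, mul_comm]
    have h2 : ∀ (r : k) (x : A), δ (algebraMap k A r * x) = r * δ x := fun r x => by
      rw [← Algebra.smul_def, map_smul, smul_eq_mul]
    simp only [h1, h2]
    have := congrFun (congrFun hcomm i) j
    rw [Matrix.mul_apply, Matrix.mul_apply] at this
    exact sub_eq_zero.2 this
  · have hC : (gen c).map (aug k A) = 1 := by
      ext a b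
      rw [Matrix.one_apply]
      exact hc.counit a b
    rw [show aug k A ((gen c * D.map (algebraMap k A) - D.map (algebraMap k A) * gen c) i j) =
      ((gen c * D.map (algebraMap k A) - D.map (algebraMap k A) * gen c).map (aug k A)) i j from rfl,
      Matrix.map_sub _ (map_sub (aug k A)), Matrix.map_mul, Matrix.map_mul, hC, _root_.one_mul, _root_.mul_one,
      sub_self]
    rfl

theorem map_mul_const {R : Type u} [CommRing R] [Algebra k R] (M : Matrix ι ι R) (D : Matrix ι ι k) (φ : R →ₗ[k] k) :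
    (M * D.map (algebraMap k R)).map φ = M.map φ * D ∧ (D.map (algebraMap k R) * M).map φ = D * M.map φ := by
  constructor <;> ext i j <;> simp only [Matrix.map_apply, Matrix.mul_apply, map_sum] <;>
    refine Finset.sum_congr rfl fun l _ => ?_
  · rw [mul_comm (M i l), ← Algebra.smul_def, map_smul, smul_eq_mul, mul_comm]
  · rw [← Algebra.smul_def, map_smul, smul_eq_mul]

theorem mem_of_forall_dual {R : Type u} [CommRing R] [Algebra k R] (I : Ideal R) (x : R)
    (h : ∀ φ : R →ₗ[k] k, (∀ y ∈ I, φ y = 0) → φ x = 0) : x ∈ I := by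
  by_contra hx
  obtain ⟨φ, hφx, hφ⟩ := Submodule.exists_dual_map_eq_bot_of_notMem
    (p := I.restrictScalars k) (x := x) hx inferInstance
  refine hφx (h φ fun y hy => ?_)
  have : φ y ∈ (I.restrictScalars k).map φ := ⟨y, hy, rfl⟩
  rwa [hφ] at this

theorem scaled_isDer {R : Type u} [CommRing R] [Algebra k R] {δ : A →ₗ[k] k} (h : IsDer δ) :
    IsDer ((Algebra.linearMap k R).comp δ) ∧
      mat c ((Algebra.linearMap k R).comp δ) = (mat c δ).map (algebraMap k R) := by
  refine ⟨fun a b => ?_, rfl⟩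
  simp [h a b, Algebra.smul_def]

/-- The Lie algebra is closed under brackets. -/
theorem adM_mem_lie (hc : Comod33.Mat.IsRep (k := k) c) {X Y : Matrix ι ι k} (hX : X ∈ lie k c) (hY : Y ∈ lie k c) :
    adM X Y ∈ lie k c := by
  obtain ⟨δX, hδX, rfl⟩ := (mem_lie_iff X).1 hX
  obtain ⟨δY, hδY, rfl⟩ := (mem_lie_iff Y).1 hY
  let x : WithConv (A →ₐ[k] TrivSqZeroExt k k) := toConv (dualPoint hδX)
  have h := map_conj_mem hc ((scaled_isDer (R := TrivSqZeroExt k k) (c := c) hδY).1) x
    ((TrivSqZeroExt.sndHom k k).restrictScalars k)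
  rw [(scaled_isDer hδY).2] at h
  have hx : Comod33.Mat.ev x.ofConv c = (1 : Matrix ι ι (TrivSqZeroExt k k)) + (mat c δX).map TrivSqZeroExt.inr := by
    ext a b
    · show (TrivSqZeroExt.inl (algebraMap k k (aug k A (c a b))) + TrivSqZeroExt.inr (δX (c a b))).fst = _
      rw [show aug k A (c a b) = _ from hc.counit a b, Matrix.add_apply, Matrix.one_apply]
      split_ifs <;> simp [mat_apply]
    · show (TrivSqZeroExt.inl (algebraMap k k (aug k A (c a b))) + TrivSqZeroExt.inr (δX (c a b))).snd = _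
      rw [show aug k A (c a b) = _ from hc.counit a b, Matrix.add_apply, Matrix.one_apply]
      split_ifs <;> simp [mat_apply]
  have hxx : ((mat c δX).map TrivSqZeroExt.inr : Matrix ι ι (TrivSqZeroExt k k)) * (mat c δX).map TrivSqZeroExt.inr = 0 := by
    ext i j <;> simp [Matrix.mul_apply, TrivSqZeroExt.fst_sum, TrivSqZeroExt.snd_sum]
  have hxi : Comod33.Mat.ev x⁻¹.ofConv c = (1 : Matrix ι ι (TrivSqZeroExt k k)) - (mat c δX).map TrivSqZeroExt.inr := by
    have e1 := Comod33.Mat.ev_mul hc x⁻¹.ofConv x.ofConv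
    rw [toConv_ofConv, toConv_ofConv, inv_mul_cancel, Comod33.Mat.ev_one hc, hx] at e1
    calc Comod33.Mat.ev x⁻¹.ofConv c
        = Comod33.Mat.ev x⁻¹.ofConv c * ((1 + (mat c δX).map TrivSqZeroExt.inr) * (1 - (mat c δX).map TrivSqZeroExt.inr)) := by
          rw [show ((1 : Matrix ι ι (TrivSqZeroExt k k)) + (mat c δX).map TrivSqZeroExt.inr) *
            (1 - (mat c δX).map TrivSqZeroExt.inr) = 1 by noncomm_ring [hxx], _root_.mul_one]
      _ = _ := by rw [← _root_.mul_assoc, ← e1, _root_.one_mul]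
  convert h using 1
  rw [hx, hxi]
  ext i j
  simp [adM_apply, Matrix.mul_apply, mul_add, add_mul, sub_eq_add_neg, TrivSqZeroExt.snd_sum, TrivSqZeroExt.fst_sum,
    Matrix.one_apply, Finset.sum_add_distrib, TrivSqZeroExt.algebraMap_eq_inl', mul_comm]

/-- For a separable bracket the Lie algebra meets the image of the bracket in its own image. -/
theorem mem_image_lie (hc : Comod33.Mat.IsRep (k := k) c) {D : Matrix ι ι k} (hD : D ∈ lie k c) (hs : Sep D)
    {v : Matrix ι ι k} (hv : v ∈ lie k c) (hv' : v ∈ LinearMap.range (adM D)) : v ∈ (lie k c).map (adM D) := by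
  let W := (lie k c).map (adM D)
  have hW : ∀ w ∈ W, adM D w ∈ W := by
    rintro _ ⟨y, hy, rfl⟩
    exact ⟨_, adM_mem_lie hc hD hy, rfl⟩
  have hker : ∀ w ∈ LinearMap.range (adM D), adM D w = 0 → w = 0 := by
    rintro _ ⟨y, rfl⟩ h
    exact hs y h
  let f : W →ₗ[k] W := (adM D).restrict hW
  have hf : Function.Injective f := (injective_iff_map_eq_zero f).2 fun w hw =>
    Subtype.ext (hker _ (LinearMap.map_le_range w.2) (congrArg Subtype.val hw))
  obtain ⟨w, hw⟩ := (LinearMap.injective_iff_surjective.1 hf) ⟨adM D v, v, hv, rfl⟩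
  have h1 : adM D (v - w.1) = 0 := by
    rw [map_sub, sub_eq_zero]; exact (congrArg Subtype.val hw).symm
  have h2 := hker _ (Submodule.sub_mem _ hv' (LinearMap.map_le_range w.2)) h1
  rw [sub_eq_zero] at h2
  rw [h2]
  exact w.2

/-- Correcting a point commuting with `D` modulo a square zero ideal. -/
theorem exists_adjust (hc : Comod33.Mat.IsRep (k := k) c) {D : Matrix ι ι k} (hD : D ∈ lie k c) (hs : Sep D)
    {R : Type u} [CommRing R] [Algebra k R] (I : Ideal R) (hI : I ^ 2 = ⊥) (g : WithConv (A →ₐ[k] R))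
    (hg : ∀ i j, (Comod33.Mat.ev g.ofConv c * D.map (algebraMap k R) -
      D.map (algebraMap k R) * Comod33.Mat.ev g.ofConv c) i j ∈ I) :
    ∃ Y : Matrix ι ι R, (∀ φ : R →ₗ[k] k, Y.map φ ∈ lie k c) ∧ (∀ i j, Y i j ∈ I) ∧
      Comod33.Mat.ev g.ofConv c * (1 + Y) * D.map (algebraMap k R) =
        D.map (algebraMap k R) * (Comod33.Mat.ev g.ofConv c * (1 + Y)) := by
  set G := Comod33.Mat.ev g.ofConv c with hG
  set G' := Comod33.Mat.ev g⁻¹.ofConv c with hG'
  set D' := D.map (algebraMap k R) with hD'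
  have hGG : G * G' = 1 := by
    have := Comod33.Mat.ev_mul hc g.ofConv g⁻¹.ofConv
    rwa [toConv_ofConv, toConv_ofConv, mul_inv_cancel, Comod33.Mat.ev_one hc, eq_comm] at this
  have hG'G : G' * G = 1 := by
    have := Comod33.Mat.ev_mul hc g⁻¹.ofConv g.ofConv
    rwa [toConv_ofConv, toConv_ofConv, inv_mul_cancel, Comod33.Mat.ev_one hc, eq_comm] at this
  have hII : ∀ {M M' : Matrix ι ι R}, (∀ i j, M i j ∈ I) → (∀ i j, M' i j ∈ I) → M * M' = 0 := by
    intro M M' h h'
    ext i j
    rw [Matrix.mul_apply, Matrix.zero_apply]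
    refine Finset.sum_eq_zero fun l _ => ?_
    have := Ideal.mul_mem_mul (h i l) (h' l j)
    rwa [← sq, hI, Ideal.mem_bot] at this
  have hIl : ∀ (N : Matrix ι ι R) {M : Matrix ι ι R}, (∀ i j, M i j ∈ I) → ∀ i j, (N * M) i j ∈ I := by
    intro N M h i j
    rw [Matrix.mul_apply]
    exact Ideal.sum_mem _ fun l _ => I.mul_mem_left _ (h l j)
  set Ω := G' * (G * D' - D' * G) with hΩ
  have hΩI : ∀ i j, Ω i j ∈ I := hIl G' hg
  have hΩeq : Ω = D' - G' * D' * G := by
    rw [hΩ, mul_sub, ← _root_.mul_assoc, hG'G, _root_.one_mul, _root_.mul_assoc]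
  -- coordinates in the Lie algebra
  obtain ⟨δ, hδ, hδD⟩ := (mem_lie_iff D).1 hD
  have hΩlie : ∀ φ : R →ₗ[k] k, Ω.map φ ∈ lie k c := by
    intro φ
    have h1 := map_conj_mem hc (scaled_isDer (R := R) (c := c) hδ).1 g⁻¹ φ
    rw [(scaled_isDer hδ).2, hδD, inv_inv] at h1
    have h2 : D'.map φ ∈ lie k c := by
      have : D'.map φ = φ 1 • D := by
        ext i j
        show φ (algebraMap k R (D i j)) = _
        rw [Algebra.algebraMap_eq_smul_one, map_smul, Matrix.smul_apply, smul_eq_mul, smul_eq_mul, mul_comm]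
      rw [this]
      exact Submodule.smul_mem _ _ hD
    rw [hΩeq, Matrix.map_sub _ (map_sub φ)]
    exact Submodule.sub_mem _ h2 h1
  -- coordinates in the image of the bracket
  obtain ⟨q, hq⟩ := LinearMap.exists_extend (p := LinearMap.ker (adM D)) LinearMap.id
  let P : Matrix ι ι k →ₗ[k] Matrix ι ι k := (LinearMap.ker (adM D)).subtype.comp q
  have hP1 : ∀ Z, adM D (P Z) = 0 := fun Z => (q Z).2
  have hP2 : ∀ Z, adM D Z = 0 → P Z = Z := fun Z hZ => by
    have h := DFunLike.congr_fun hq ⟨Z, LinearMap.mem_ker.2 hZ⟩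
    exact congrArg Subtype.val h
  set G₁ := ext' P G with hG₁
  have hG₁c : G₁ * D' = D' * G₁ := eq_of_forall_dual (k := k) fun φ => by
    rw [(map_mul_const G₁ D φ).1, (map_mul_const G₁ D φ).2, hG₁, map_ext']
    have := hP1 (G.map φ)
    rw [adM_apply, sub_eq_zero] at this
    exact this.symm
  have hd : ∀ i j, (G - G₁) i j ∈ I := fun i j => mem_of_forall_dual (k := k) I _ fun φ hφ => by
    have h0 : adM D (G.map φ) = 0 := by
      rw [adM_apply, ← (map_mul_const G D φ).1, ← (map_mul_const G D φ).2]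
      ext a b
      simp only [Matrix.sub_apply, Matrix.map_apply, Matrix.zero_apply]
      rw [← map_sub, ← neg_sub ((G * D') a b), map_neg, neg_eq_zero]
      exact hφ _ (hg a b)
    have h1 := congrFun (congrFun ((map_ext' P G φ).trans (hP2 _ h0)) i) j
    simp only [Matrix.map_apply] at h1
    rw [Matrix.sub_apply, map_sub, h1, sub_self]
  set W := G' * (G - G₁) with hW
  have hWI : ∀ i j, W i j ∈ I := hIl G' hd
  have hG₁e : G₁ = G * (1 - W) := by
    rw [hW, mul_sub, ← _root_.mul_assoc, hGG, _root_.one_mul, _root_.mul_one, sub_sub_cancel]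
  have hΩW : Ω = W * D' - D' * W := by
    have h1 : (1 - W) * D' = G' * D' * G * (1 - W) := by
      calc (1 - W) * D' = G' * (G * (1 - W) * D') := by
            rw [← _root_.mul_assoc, ← _root_.mul_assoc, hG'G, _root_.one_mul]
        _ = G' * (D' * (G * (1 - W))) := by rw [← hG₁e, hG₁c]
        _ = _ := by noncomm_ring
    have h2 : G' * D' * G = D' - Ω := by rw [hΩeq, sub_sub_cancel]
    rw [h2] at h1
    have h3 : Ω * W = 0 := hII hΩI hWI
    have h4 : (D' - Ω) * (1 - W) = D' - Ω - D' * W + Ω * W := by noncomm_ring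
    rw [h4, h3, add_zero, sub_mul, _root_.one_mul] at h1
    have h5 : Ω = (D' - Ω - D' * W) * 0 + (W * D' - D' * W) := by
      rw [mul_zero, zero_add]
      have := h1
      rw [eq_comm, sub_eq_sub_iff_add_eq_add] at this
      have h6 : Ω + D' * W = W * D' := by
        have h7 : D' - Ω - D' * W = D' - W * D' := by
          rw [sub_eq_sub_iff_add_eq_add]; exact this
        have h8 : D' - (Ω + D' * W) = D' - W * D' := by rw [← h7, sub_sub]
        exact sub_right_injective h8
      rw [← h6, add_sub_cancel_right]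
    rw [mul_zero, zero_add] at h5
    exact h5
  have himg : ∀ φ : R →ₗ[k] k, Ω.map φ ∈ (lie k c).map (adM D) := fun φ => by
    refine mem_image_lie hc hD hs (hΩlie φ) ⟨-(W.map φ), ?_⟩
    rw [hΩW, Matrix.map_sub _ (map_sub φ), (map_mul_const W D φ).1, (map_mul_const W D φ).2, adM_apply]
    noncomm_ring
  -- the correction
  let f : lie k c →ₗ[k] (lie k c).map (adM D) := ((adM D).comp (lie k c).subtype).codRestrict _ fun y => ⟨y, y.2, rfl⟩
  obtain ⟨σ, hσ⟩ := f.exists_rightInverse_of_surjective (LinearMap.range_eq_top.2 fun ⟨_, y, hy, e⟩ =>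
    ⟨⟨y, hy⟩, Subtype.ext e⟩)
  obtain ⟨r, hr⟩ := LinearMap.exists_extend (p := (lie k c).map (adM D)) LinearMap.id
  let S : Matrix ι ι k →ₗ[k] Matrix ι ι k := (lie k c).subtype.comp (σ.comp r)
  have hS : ∀ Z ∈ (lie k c).map (adM D), adM D (S Z) = Z := fun Z hZ => by
    have h1 : r Z = ⟨Z, hZ⟩ := DFunLike.congr_fun hr ⟨Z, hZ⟩
    show adM D (σ (r Z) : Matrix ι ι k) = Z
    rw [h1]
    exact congrArg Subtype.val (DFunLike.congr_fun hσ ⟨Z, hZ⟩)
  refine ⟨ext' S Ω, fun φ => ?_, ext'_mem S hΩI, ?_⟩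
  · rw [map_ext']
    exact (σ (r (Ω.map φ))).2
  set Y := ext' S Ω with hY
  have hYe : D' * Y - Y * D' = Ω := eq_of_forall_dual (k := k) fun φ => by
    rw [Matrix.map_sub _ (map_sub φ), (map_mul_const Y D φ).1, (map_mul_const Y D φ).2, hY, map_ext', ← adM_apply]
    exact hS _ (himg φ)
  have h0 : (D' * G - G * D') * Y = 0 := hII (fun i j => by
    rw [← neg_sub, Matrix.neg_apply]; exact I.neg_mem (hg i j)) (ext'_mem S hΩI)
  have hGΩ : G * Ω = G * D' - D' * G := by rw [hΩ, ← _root_.mul_assoc, hGG, _root_.one_mul]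
  calc G * (1 + Y) * D' = G * D' + G * (Y * D') := by noncomm_ring
    _ = G * D' + G * (D' * Y - Ω) := by rw [← hYe, sub_sub_cancel]
    _ = D' * G + G * D' * Y := by rw [mul_sub, hGΩ]; noncomm_ring
    _ = D' * G + (G * D' * Y + (D' * G - G * D') * Y) := by rw [h0, add_zero]
    _ = _ := by noncomm_ring

/-- The point corrected by a matrix in the Lie algebra. -/
theorem exists_point (hc : Comod33.Mat.IsRep (k := k) c) {R : Type u} [CommRing R] [Algebra k R] (I : Ideal R)
    (hI : I ^ 2 = ⊥) (Y : Matrix ι ι R) (hY : ∀ φ : R →ₗ[k] k, Y.map φ ∈ lie k c) (hYI : ∀ i j, Y i j ∈ I) :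
    ∃ x : A →ₐ[k] R, Comod33.Mat.ev x c = 1 + Y ∧ ∀ a, x a - algebraMap k R (aug k A a) ∈ I := by
  obtain ⟨L, hL, hLs⟩ := exists_derSection (k := k) c
  let δ := derR L Y
  have hδ : IsDer δ := isDer_derR hL Y
  have hδI : ∀ a, δ a ∈ I := fun a => by
    rw [derR_apply]
    exact Ideal.sum_mem _ fun i _ => Ideal.sum_mem _ fun j _ => Submodule.smul_of_tower_mem _ _ (hYI i j)
  have h1 : δ 1 = 0 := by
    have h := hδ 1 1
    rwa [map_one, one_smul, _root_.mul_one, right_eq_add] at h
  let x : A →ₐ[k] R := AlgHom.ofLinearMap ((Algebra.linearMap k R).comp (aug k A).toLinearMap + δ) (by simp [h1])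
    fun a b => by
      have hab : δ a * δ b = 0 := by
        have := Ideal.mul_mem_mul (hδI a) (hδI b)
        rwa [← sq, hI, Ideal.mem_bot] at this
      simp only [LinearMap.add_apply, LinearMap.comp_apply, AlgHom.toLinearMap_apply, Algebra.linearMap_apply,
        map_mul, hδ a b, Algebra.smul_def, add_mul, mul_add, hab]
      ring
  refine ⟨x, ?_, fun a => ?_⟩
  · ext i j
    show algebraMap k R (aug k A (c i j)) + δ (c i j) = _
    rw [show aug k A (c i j) = _ from hc.counit i j, Matrix.add_apply, Matrix.one_apply, ← mat_apply (c := c) δ,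
      mat_derR hLs hY]
    split_ifs <;> simp
  · show algebraMap k R (aug k A a) + δ a - _ ∈ I
    rw [add_sub_cancel_left]
    exact hδI a

/-- The stabiliser of a separable element of the Lie algebra is smooth. -/
theorem smooth_stab (hc : Comod33.Mat.IsRep (k := k) c) [Algebra.Smooth k A] {D : Matrix ι ι k} (hD : D ∈ lie k c)
    (hs : Sep D) : Algebra.Smooth k (A ⧸ stabIdeal c D) := by
  haveI : IsNoetherianRing A := Algebra.FiniteType.isNoetherianRing k A
  haveI : Algebra.FiniteType k (A ⧸ stabIdeal c D) :=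
    Algebra.FiniteType.of_surjective (Ideal.Quotient.mkₐ k _) Ideal.Quotient.mk_surjective
  refine ⟨Algebra.FormallySmooth.of_comp_surjective fun B _ _ I hI f => ?_,
    Algebra.FinitePresentation.of_finiteType.1 inferInstance⟩
  let π := Ideal.Quotient.mkₐ k (stabIdeal c D)
  obtain ⟨g₀, hg₀⟩ := Algebra.FormallySmooth.comp_surjective k A I hI (f.comp π)
  have hmod : ∀ i j, (Comod33.Mat.ev g₀ c * D.map (algebraMap k B) -
      D.map (algebraMap k B) * Comod33.Mat.ev g₀ c) i j ∈ I := fun i j => by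
    have h := (kills_stabIdeal_iff (f.comp π) D).1 fun a ha => by
      rw [AlgHom.comp_apply, show π a = 0 from Ideal.Quotient.eq_zero_iff_mem.2 ha, map_zero]
    rw [← hg₀] at h
    rw [← Ideal.Quotient.eq_zero_iff_mem]
    have h2 := congrFun (congrFun (sub_eq_zero.2 h) i) j
    refine Eq.trans ?_ h2
    rw [show Ideal.Quotient.mk I ((Comod33.Mat.ev g₀ c * D.map (algebraMap k B) -
      D.map (algebraMap k B) * Comod33.Mat.ev g₀ c) i j) = ((Comod33.Mat.ev g₀ c * D.map (algebraMap k B) -
      D.map (algebraMap k B) * Comod33.Mat.ev g₀ c).map (Ideal.Quotient.mkₐ k I)) i j from rfl,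
      Matrix.map_sub _ (map_sub _), Matrix.map_mul, Matrix.map_mul]
    congr 2 <;> ext a b <;> simp [Comod33.Mat.ev_apply]
  obtain ⟨Y, hY, hYI, hcomm⟩ := exists_adjust hc hD hs I hI (toConv g₀) hmod
  obtain ⟨x, hx, hxI⟩ := exists_point hc I hI Y hY hYI
  let g := (toConv g₀ * toConv x).ofConv
  have hgkill : ∀ a ∈ stabIdeal c D, g a = 0 := (kills_stabIdeal_iff g D).2 (by
    rw [Comod33.Mat.ev_mul hc, hx]
    exact hcomm)
  refine ⟨Ideal.Quotient.liftₐ _ g hgkill, Ideal.Quotient.algHom_ext k ?_⟩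
  show (Ideal.Quotient.mkₐ k I).comp g = f.comp π
  have hx1 : toConv ((Ideal.Quotient.mkₐ k I).comp x) = 1 := by
    refine WithConv.ofConv_injective (AlgHom.ext fun a => ?_)
    show Ideal.Quotient.mk I (x a) = algebraMap k (B ⧸ I) (aug k A a)
    rw [← Ideal.Quotient.mk_algebraMap, Ideal.Quotient.eq]
    exact hxI a
  rw [AlgHom.comp_convMul_distrib, hx1, ofConv_toConv, _root_.mul_one, ofConv_toConv, hg₀]

/-- An element which is central in the Lie algebra and separable commutes with the whole connected group. -/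
theorem commute_of_central (hc : Comod33.Mat.IsRep (k := k) c) [IsDomain A] [IsNoetherianRing A] {D : Matrix ι ι k}
    (hD : D ∈ lie k c) (hs : Sep D) (hcent : ∀ Y ∈ lie k c, adM D Y = 0) :
    gen c * D.map (algebraMap k A) = D.map (algebraMap k A) * gen c := by
  set m := RingHom.ker (aug k A) with hm
  have hm' : m ≠ ⊤ := RingHom.ker_ne_top _
  have key : ∀ n i j, (gen c * D.map (algebraMap k A) - D.map (algebraMap k A) * gen c) i j ∈ m ^ (n + 1) := by
    intro n
    induction n with
    | zero =>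
      intro i j
      have hC : (gen c).map (aug k A) = 1 := by
        ext a b
        rw [Matrix.one_apply]
        exact hc.counit a b
      rw [zero_add, pow_one, hm, RingHom.mem_ker]
      show ((gen c * D.map (algebraMap k A) - D.map (algebraMap k A) * gen c).map (aug k A)) i j = 0
      rw [Matrix.map_sub _ (map_sub (aug k A)), Matrix.map_mul, Matrix.map_mul, hC, _root_.one_mul, _root_.mul_one,
        sub_self]
      rfl
    | succ n ih =>
      intro i j
      let π := Ideal.Quotient.mkₐ k (m ^ (n + 2))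
      let I : Ideal (A ⧸ m ^ (n + 2)) := (m ^ (n + 1)).map π
      have hI : I ^ 2 = ⊥ := by
        rw [← Ideal.map_pow, ← pow_mul, Ideal.map_eq_bot_iff_le_ker]
        refine le_trans (Ideal.pow_le_pow_right (by omega : n + 2 ≤ (n + 1) * 2)) fun a ha => ?_
        exact RingHom.mem_ker.2 (Ideal.Quotient.eq_zero_iff_mem.2 ha)
      have hmap : ∀ a b, (Comod33.Mat.ev π c * (D.map (algebraMap k (A ⧸ m ^ (n + 2))) : Matrix ι ι (A ⧸ m ^ (n + 2))) -
          (D.map (algebraMap k (A ⧸ m ^ (n + 2))) : Matrix ι ι (A ⧸ m ^ (n + 2))) * Comod33.Mat.ev π c) a b =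
          π ((gen c * D.map (algebraMap k A) - D.map (algebraMap k A) * gen c) a b) := fun a b => by
        rw [← ev_gen π, ← map_algebraMap_map π D, ← Matrix.map_mul, ← Matrix.map_mul, ← Matrix.map_sub _ (map_sub π)]
        rfl
      obtain ⟨Y, hY, hYI, hcomm⟩ := exists_adjust hc hD hs I hI (toConv π) fun a b => by
        rw [hmap]; exact Ideal.mem_map_of_mem _ (ih a b)
      have hYc : Y * D.map (algebraMap k (A ⧸ m ^ (n + 2))) = D.map (algebraMap k _) * Y :=
        eq_of_forall_dual (k := k) fun φ => by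
          rw [(map_mul_const Y D φ).1, (map_mul_const Y D φ).2]
          have := hcent _ (hY φ)
          rw [adM_apply, sub_eq_zero] at this
          exact this.symm
      have hu : IsUnit (1 + Y) := by
        obtain ⟨x, hx, -⟩ : ∃ x : A →ₐ[k] A ⧸ m ^ (n + 2), Comod33.Mat.ev x c = 1 + Y ∧ True := by
          obtain ⟨x, hx, -⟩ := exists_point hc I hI Y hY hYI
          exact ⟨x, hx, trivial⟩
        have e1 := Comod33.Mat.ev_mul hc x (toConv x)⁻¹.ofConv
        rw [toConv_ofConv, mul_inv_cancel, Comod33.Mat.ev_one hc, hx] at e1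
        exact IsUnit.of_mul_eq_one _ e1.symm
      have h3 : Comod33.Mat.ev π c * D.map (algebraMap k _) * (1 + Y) =
          D.map (algebraMap k _) * Comod33.Mat.ev π c * (1 + Y) := by
        rw [_root_.mul_assoc _ _ (1 + Y), show D.map (algebraMap k (A ⧸ m ^ (n + 2))) * (1 + Y) =
          (1 + Y) * D.map (algebraMap k _) by noncomm_ring [hYc], ← _root_.mul_assoc, hcomm, _root_.mul_assoc]
      have h4 := hu.mul_right_cancel h3
      rw [← Ideal.Quotient.eq_zero_iff_mem]
      show π _ = 0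
      rw [← hmap, h4, sub_self]
      rfl
  rw [← sub_eq_zero]
  ext i j
  have h := Ideal.iInf_pow_eq_bot_of_isDomain m hm'
  rw [Matrix.zero_apply, ← Ideal.mem_bot, ← h, Ideal.mem_iInf]
  intro n
  cases n with
  | zero => simp
  | succ n => exact key n i j

end Groth.Agent.Torus37
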