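import Groth.Agent.Torus37.Cochar
import Groth.Agent.Torus37.Quot

/-!
Dividing a noncentral homomorphism from `μ_{p^(n+1)}` by `p` in the quotient by the infinitesimal central subgroup.
-/

set_option autoImplicit false
set_option linter.unusedSectionVars false
set_option linter.style.haveILetI false

universe u

open scoped TensorProduct MonoidAlgebra
open WithConv TensorProduct Groth.Agent.Dyn50

noncomputable section

namespace Groth.Agent.Torus37

/-- Cyclic groups of prime power order. -/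
abbrev Cyc (p n : ℕ) : Type := Multiplicative (ZMod (p ^ n))

/-- Reduction modulo `p`. -/
def redP (p n : ℕ) : Cyc p (n + 1) →* Multiplicative (ZMod p) :=
  AddMonoidHom.toMultiplicative (ZMod.castHom (dvd_pow_self p n.succ_ne_zero) (ZMod p)).toAddMonoidHom

/-- Multiplication by `p`. -/
def mulP (p n : ℕ) : Cyc p n →* Cyc p (n + 1) :=
  AddMonoidHom.toMultiplicative (ZMod.lift (p ^ n)
    ⟨(AddMonoidHom.mulLeft (p : ZMod (p ^ (n + 1)))).comp (Int.castAddHom _), by
      show (p : ZMod (p ^ (n + 1))) * ((p ^ n : ℕ) : ℤ) = 0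
      rw [Int.cast_natCast, ← Nat.cast_mul, ← pow_succ', ZMod.natCast_self]⟩)

theorem mulP_ofAdd (p n : ℕ) (z : ℤ) :
    mulP p n (Multiplicative.ofAdd (z : ZMod (p ^ n))) =
      Multiplicative.ofAdd ((p : ZMod (p ^ (n + 1))) * (z : ZMod (p ^ (n + 1)))) := by
  show Multiplicative.ofAdd (ZMod.lift (p ^ n) _ (z : ZMod (p ^ n))) = _
  rw [ZMod.lift_coe]
  rfl

theorem mulP_injective (p n : ℕ) [hp : Fact p.Prime] : Function.Injective (mulP p n) := by
  rw [injective_iff_map_eq_one]
  intro a ha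
  obtain ⟨z, hz⟩ := ZMod.intCast_surjective a.toAdd
  rw [show a = Multiplicative.ofAdd (z : ZMod (p ^ n)) by rw [hz]; rfl] at ha ⊢
  rw [mulP_ofAdd] at ha
  have h : (((p : ℤ) * z : ℤ) : ZMod (p ^ (n + 1))) = 0 := by
    push_cast
    exact Multiplicative.ofAdd.injective ha
  rw [ZMod.intCast_zmod_eq_zero_iff_dvd, Nat.cast_pow, pow_succ'] at h
  have h2 := Int.dvd_of_mul_dvd_mul_left (Int.natCast_ne_zero.2 hp.out.ne_zero) h
  have h3 : ((z : ℤ) : ZMod (p ^ n)) = 0 := by
    rw [ZMod.intCast_zmod_eq_zero_iff_dvd, Nat.cast_pow]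
    exact h2
  rw [h3]
  rfl

theorem mem_range_mulP (p n : ℕ) [hp : Fact p.Prime] {a : Cyc p (n + 1)} (h : redP p n a = 1) :
    a ∈ Set.range (mulP p n) := by
  obtain ⟨z, hz⟩ := ZMod.intCast_surjective a.toAdd
  have h' : ((z : ℤ) : ZMod p) = 0 := by
    have h1 : Multiplicative.ofAdd (ZMod.castHom (dvd_pow_self p n.succ_ne_zero) (ZMod p) a.toAdd) = 1 := h
    rw [← hz, map_intCast] at h1
    exact Multiplicative.ofAdd.injective h1
  obtain ⟨w, hw⟩ := (ZMod.intCast_zmod_eq_zero_iff_dvd z p).1 h'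
  refine ⟨Multiplicative.ofAdd (w : ZMod (p ^ n)), ?_⟩
  rw [mulP_ofAdd]
  apply Multiplicative.toAdd.injective
  rw [← hz, hw]
  push_cast
  rfl

variable {k : Type u} [Field k] {L : Type u} [Field L] [Algebra k L] {A : Type u} [CommRing A] [HopfAlgebra k A]

/-- The monomial lift. -/
def tMap {R : Type u} [CommRing R] [Algebra L R] {M : Type} [CommMonoid M] (f : M →* R) :
    MonoidAlgebra L M →ₐ[L] R := MonoidAlgebra.lift L R M f

theorem tMap_mono {R : Type u} [CommRing R] [Algebra L R] {M : Type} [CommMonoid M] (f : M →* R) (a : M) :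
    tMap (L := L) f (mono L a) = f a := by
  simp [tMap, MonoidAlgebra.lift_single]

variable {ι : Type} [Fintype ι] [DecidableEq ι] {c : ι → ι → A}
variable (p : ℕ) [hp : Fact p.Prime] [CharP k p] [CharP L p] [Infinite k]

/-- Composition with the reduction. -/
def redHom {n : ℕ} (φ : L ⊗[k] A →ₐc[L] MonoidAlgebra L (Cyc p (n + 1))) :
    L ⊗[k] A →ₐc[L] MonoidAlgebra L (Multiplicative (ZMod p)) :=
  (MonoidAlgebra.mapDomainBialgHom L (redP p n)).comp φ

/-- The weights of invariant functions are divisible by `p`. -/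
theorem weight_eq_zero {n : ℕ} (hc : Comod33.Mat.IsRep (k := k) c)
    (hgen : Algebra.adjoin k (Set.range fun p : ι × ι => c p.1 p.2) = ⊤)
    {V : Submodule k (Matrix ι ι k)} (hV : CentralAlg k c V) {e : ℕ} (hpow : ∀ X ∈ lie k c, X ^ p ^ e ∈ V)
    (φ : L ⊗[k] A →ₐc[L] MonoidAlgebra L (Cyc p (n + 1))) {x : A}
    (hx : x ∈ SGA3a.NormalHopf.coinv (k := k) (mIdeal p c V)) (a : Cyc p (n + 1)) (ha : redP p n a ≠ 1) :
    (mor φ x).coeff a = 0 := by
  classical
  let M₂ := Cyc p (n + 1) × Multiplicative (ZMod p)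
  let R := MonoidAlgebra L M₂
  let f₁ : Cyc p (n + 1) →* M₂ := MonoidHom.inl _ _
  let f₂ : Cyc p (n + 1) →* M₂ := (MonoidHom.inr _ _).comp (redP p n)
  let f : Cyc p (n + 1) →* M₂ := (MonoidHom.id _).prod (redP p n)
  let t : (Cyc p (n + 1) →* M₂) → (MonoidAlgebra L (Cyc p (n + 1)) →ₐ[L] R) := fun g =>
    MonoidAlgebra.mapDomainAlgHom L L g
  have ht : ∀ (g : Cyc p (n + 1) →* M₂) a, t g (mono L a) = mono L (g a) := fun g a => by
    show MonoidAlgebra.mapDomain g (MonoidAlgebra.single a 1) = _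
    rw [MonoidAlgebra.mapDomain_single]
  have hmul : tpt φ (t f₁) * tpt φ (t f₂) = tpt φ (t f) := tpt_mul φ hc hgen _ _ _ fun a => by
    rw [ht, ht, ht, MonoidAlgebra.single_mul_single, _root_.mul_one]
    show MonoidAlgebra.single ((a, redP p n a) : M₂) (1 : L) =
      MonoidAlgebra.single (((a, 1) : M₂) * ((1, redP p n a) : M₂)) 1
    rw [Prod.mk_mul_mk, _root_.mul_one, _root_.one_mul]
  have hk : ∀ b ∈ mIdeal p c V, (tpt φ (t f₂)).ofConv b = 0 := fun b hb => by
    have h := kills_mIdeal_modP p hc hV hpow (redHom p φ) b hb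
    show t f₂ (φ (1 ⊗ₜ b)) = 0
    have e : t f₂ = (MonoidAlgebra.mapDomainAlgHom L L (MonoidHom.inr (Cyc p (n + 1)) _)).comp
        (MonoidAlgebra.mapDomainAlgHom L L (redP p n)) := MonoidAlgebra.mapDomainAlgHom_comp _ _
    rw [e, AlgHom.comp_apply]
    rw [show (MonoidAlgebra.mapDomainAlgHom L L (redP p n)) (φ (1 ⊗ₜ b)) = mor (redHom p φ) b from rfl, h, map_zero]
  have h1 := hx R (tpt φ (t f₁)).ofConv (tpt φ (t f₂)).ofConv hk
  rw [toConv_ofConv, toConv_ofConv, hmul] at h1
  have h2 := congrArg (fun y : R => y.coeff (f a)) h1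
  change (MonoidAlgebra.mapDomain f (mor φ x)).coeff (f a) = (MonoidAlgebra.mapDomain f₁ (mor φ x)).coeff (f a) at h2
  rw [MonoidAlgebra.coeff_mapDomain, MonoidAlgebra.coeff_mapDomain] at h2
  rw [Finsupp.mapDomain_apply (fun x y h => (congrArg Prod.fst h : _))] at h2
  rw [h2, Finsupp.mapDomain_of_notMem_range]
  rintro ⟨b, hb⟩
  exact ha (congrArg Prod.snd hb).symm

variable {A' : Type u} [CommRing A'] [HopfAlgebra k A']

/-- The restriction to a quotient. -/
def restrHom {M : Type} [CommMonoid M] (j : A' →ₐc[k] A) (φ : L ⊗[k] A →ₐc[L] MonoidAlgebra L M) :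
    L ⊗[k] A' →ₐc[L] MonoidAlgebra L M :=
  φ.comp (Bialgebra.TensorProduct.map (BialgHom.id L L) j)

theorem mor_restrHom {M : Type} [CommMonoid M] (j : A' →ₐc[k] A) (φ : L ⊗[k] A →ₐc[L] MonoidAlgebra L M) (a : A') :
    mor (restrHom j φ) a = mor φ (j a) := rfl

/-- The divided homomorphism. -/
theorem exists_divided {n : ℕ} (hc : Comod33.Mat.IsRep (k := k) c)
    (hgen : Algebra.adjoin k (Set.range fun p : ι × ι => c p.1 p.2) = ⊤)
    {V : Submodule k (Matrix ι ι k)} (hV : CentralAlg k c V) {e : ℕ} (hpow : ∀ X ∈ lie k c, X ^ p ^ e ∈ V)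
    (j : A' →ₐc[k] A) (hj : ∀ a, j a ∈ SGA3a.NormalHopf.coinv (k := k) (mIdeal p c V))
    (φ : L ⊗[k] A →ₐc[L] MonoidAlgebra L (Cyc p (n + 1))) :
    ∃ φ' : L ⊗[k] A' →ₐc[L] MonoidAlgebra L (Cyc p n),
      (MonoidAlgebra.mapDomainBialgHom L (mulP p n)).comp φ' = restrHom j φ := by
  classical
  let ι' := MonoidAlgebra.mapDomainAlgHom L L (mulP p n)
  have hι : Function.Injective ι' := fun x y h => MonoidAlgebra.mapDomain_injective (mulP_injective p n) h
  let ρ : L ⊗[k] A' →ₐ[L] MonoidAlgebra L (Cyc p (n + 1)) :=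
    (restrHom j φ : L ⊗[k] A' →ₐ[L] MonoidAlgebra L (Cyc p (n + 1)))
  have hmem : ∀ z, ρ z ∈ ι'.range := by
    intro z
    induction z with
    | zero => simp
    | add x y hx hy => rw [map_add]; exact add_mem hx hy
    | tmul l a =>
      rw [show l ⊗ₜ[k] a = l • ((1 : L) ⊗ₜ[k] a) by rw [TensorProduct.smul_tmul', smul_eq_mul, _root_.mul_one],
        map_smul]
      refine Subalgebra.smul_mem _ ?_ l
      show mor (restrHom j φ) a ∈ ι'.range
      rw [mor_restrHom]
      set y := mor φ (j a) with hy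
      rw [show y = ∑ b ∈ y.coeff.support, MonoidAlgebra.single b (y.coeff b) from (MonoidAlgebra.sum_coeff_single y).symm]
      refine sum_mem fun b hb => ?_
      obtain ⟨b', rfl⟩ := mem_range_mulP p n (a := b) (by
        by_contra hb'
        exact Finsupp.mem_support_iff.1 hb (weight_eq_zero p hc hgen hV hpow φ (hj a) b hb'))
      exact ⟨MonoidAlgebra.single b' (y.coeff (mulP p n b')), by simp [ι', MonoidAlgebra.mapDomainAlgHom_apply]⟩
  let φa : L ⊗[k] A' →ₐ[L] MonoidAlgebra L (Cyc p n) :=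
    ((AlgEquiv.ofInjective ι' hι).symm : ι'.range →ₐ[L] MonoidAlgebra L (Cyc p n)).comp (ρ.codRestrict ι'.range hmem)
  have hφa : ∀ z, ι' (φa z) = restrHom j φ z := fun z =>
    congrArg Subtype.val ((AlgEquiv.ofInjective ι' hι).apply_symm_apply (ρ.codRestrict ι'.range hmem z))
  let m := MonoidAlgebra.mapDomainBialgHom L (mulP p n)
  refine ⟨BialgHom.ofAlgHom φa (AlgHom.ext fun z => ?_) (AlgHom.ext fun z => ?_), BialgHom.ext fun z => hφa z⟩
  · show CoalgebraStruct.counit (R := L) (φa z) = CoalgebraStruct.counit (R := L) z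
    rw [← CoalgHomClass.counit_comp_apply m (φa z), show m (φa z) = restrHom j φ z from hφa z,
      CoalgHomClass.counit_comp_apply]
  · show TensorProduct.map φa.toLinearMap φa.toLinearMap (CoalgebraStruct.comul (R := L) z) =
      CoalgebraStruct.comul (R := L) (φa z)
    refine Comod33.SubHopf.map_injective (f := ι'.toLinearMap) (g := ι'.toLinearMap) hι hι ?_
    rw [← LinearMap.comp_apply, ← TensorProduct.map_comp]
    have h1 := CoalgHomClass.map_comp_comul_apply (restrHom j φ) z
    have h2 := CoalgHomClass.map_comp_comul_apply m (φa z)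
    rw [show ι'.toLinearMap.comp φa.toLinearMap = (restrHom j φ : L ⊗[k] A' →ₗ[L] _) from LinearMap.ext hφa]
    refine h1.trans ?_
    rw [← hφa z]
    exact h2.symm

/-- Points commuting in the quotient differ by a point of the kernel. -/
theorem exists_commutator {R : Type u} [CommRing R] [Algebra k R] (j : A' →ₐc[k] A) (I : Ideal A)
    (hkills : ∀ (g : A →ₐ[k] R),
      (∀ a ∈ I, g a = 0) ↔ g.comp (j : A' →ₐ[k] A) = (1 : WithConv (A' →ₐ[k] R)).ofConv)
    (g t : WithConv (A →ₐ[k] R))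
    (h : Commute (toConv (g.ofConv.comp (j : A' →ₐ[k] A))) (toConv (t.ofConv.comp (j : A' →ₐ[k] A)))) :
    ∃ m : WithConv (A →ₐ[k] R), (∀ b ∈ I, m.ofConv b = 0) ∧ m * t = g * t * g⁻¹ := by
  let pc : WithConv (A →ₐ[k] R) →* WithConv (A' →ₐ[k] R) :=
    MonoidHom.mk' (fun x => toConv (x.ofConv.comp (j : A' →ₐ[k] A)))
      fun x y => congrArg toConv (AlgHom.convMul_comp_bialgHom_distrib x y j)
  refine ⟨g * t * g⁻¹ * t⁻¹, (hkills _).2 ?_, inv_mul_cancel_right _ _⟩
  have h1 : pc (g * t * g⁻¹ * t⁻¹) = 1 := by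
    rw [map_mul, map_mul, map_mul, map_inv, map_inv, show pc g * pc t = pc t * pc g from h.eq, mul_inv_cancel_right,
      mul_inv_cancel]
  exact congrArg WithConv.ofConv h1

/-- The divided homomorphism is not central. -/
theorem not_central_divided {n : ℕ} (hc : Comod33.Mat.IsRep (k := k) c)
    (hgen : Algebra.adjoin k (Set.range fun p : ι × ι => c p.1 p.2) = ⊤)
    {V : Submodule k (Matrix ι ι k)} (hV : CentralAlg k c V) [IsDomain (L ⊗[k] A)] [IsNoetherianRing (L ⊗[k] A)]
    (j : A' →ₐc[k] A)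
    (hkills : ∀ (R : Type u) [CommRing R] [Algebra k R] (g : A →ₐ[k] R),
      (∀ a ∈ mIdeal p c V, g a = 0) ↔ g.comp (j : A' →ₐ[k] A) = (1 : WithConv (A' →ₐ[k] R)).ofConv)
    (φ : L ⊗[k] A →ₐc[L] MonoidAlgebra L (Cyc p (n + 1))) (hφ : ¬ IsCentralHom φ)
    (φ' : L ⊗[k] A' →ₐc[L] MonoidAlgebra L (Cyc p n))
    (hφ' : (MonoidAlgebra.mapDomainBialgHom L (mulP p n)).comp φ' = restrHom j φ) : ¬ IsCentralHom φ' := by
  classical
  intro hcen
  refine hφ (isCentralHom_of_wt φ hc hgen fun a => ?_)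
  let AL := L ⊗[k] A
  let R := MonoidAlgebra AL (Cyc p (n + 1))
  let g : WithConv (A →ₐ[k] R) :=
    toConv ((IsScalarTower.toAlgHom k AL R).comp Algebra.TensorProduct.includeRight)
  let t : MonoidAlgebra L (Cyc p (n + 1)) →ₐ[L] R :=
    tMap (MonoidAlgebra.of AL (Cyc p (n + 1)))
  have hpc : toConv ((tpt φ t).ofConv.comp (j : A' →ₐ[k] A)) =
      tpt φ' (t.comp (MonoidAlgebra.mapDomainAlgHom L L (mulP p n))) := by
    refine WithConv.ofConv_injective (AlgHom.ext fun x => ?_)
    show t (mor φ (j x)) = t (MonoidAlgebra.mapDomainBialgHom L (mulP p n) (φ' (1 ⊗ₜ x)))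
    rw [← mor_restrHom, ← hφ']
    rfl
  obtain ⟨m, hm, hmT⟩ := exists_commutator j (mIdeal p c V) (hkills R) g (tpt φ t) (by
    rw [hpc]
    exact hcen R _ (t.comp (MonoidAlgebra.mapDomainAlgHom L L (mulP p n))))
  -- matrices
  set W := wt φ (cL L c) with hW
  set G := gen (cL (k := k) L c) with hG
  set G' := Comod33.Mat.ev (toConv (Algebra.TensorProduct.includeRight : A →ₐ[k] AL))⁻¹.ofConv c with hG'
  have hGG : G * G' = 1 ∧ G' * G = 1 := by
    constructor
    · have h := Comod33.Mat.ev_mul hc (Algebra.TensorProduct.includeRight : A →ₐ[k] AL)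
        (toConv (Algebra.TensorProduct.includeRight : A →ₐ[k] AL))⁻¹.ofConv
      rw [toConv_ofConv, mul_inv_cancel, Comod33.Mat.ev_one hc] at h
      exact h.symm
    · have h := Comod33.Mat.ev_mul hc (toConv (Algebra.TensorProduct.includeRight : A →ₐ[k] AL))⁻¹.ofConv
        (Algebra.TensorProduct.includeRight : A →ₐ[k] AL)
      rw [toConv_ofConv, inv_mul_cancel, Comod33.Mat.ev_one hc] at h
      exact h.symm
  set Wt : Cyc p (n + 1) → Matrix ι ι AL := fun a => G * (W a).map (algebraMap L AL) * G' with hWt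
  let cst : AL →+* R := algebraMap AL R
  have hg : Comod33.Mat.ev g.ofConv c = G.map cst := rfl
  have hg' : Comod33.Mat.ev g⁻¹.ofConv c = G'.map cst := rfl
  have hX : Comod33.Mat.ev (g * tpt φ t * g⁻¹).ofConv c =
      ∑ a ∈ wtSupp φ (cL L c), t (mono L a) • (Wt a).map cst := by
    have e1 := Comod33.Mat.ev_mul hc (g * tpt φ t).ofConv g⁻¹.ofConv
    have e2 := Comod33.Mat.ev_mul hc g.ofConv (tpt φ t).ofConv
    rw [toConv_ofConv, toConv_ofConv] at e1 e2
    rw [e1, e2, hg, hg', ev_tpt, Finset.mul_sum, Finset.sum_mul]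
    refine Finset.sum_congr rfl fun a _ => ?_
    rw [mul_smul_comm, smul_mul_assoc]
    congr 1
    simp only [hWt, Matrix.map_mul]
    congr 2
  have hmV : InSpan V (Comod33.Mat.ev m.ofConv c) := ((kills_mIdeal_iff p _).1 hm).1
  have hcomm : ∀ a b, Commute ((W b).map (algebraMap L AL)) (Wt a) := by
    intro a b
    have h1 : Commute ((W b).map (algebraMap L R)) (Comod33.Mat.ev (g * tpt φ t * g⁻¹).ofConv c) := by
      rw [← hmT]
      have e := Comod33.Mat.ev_mul hc m.ofConv (tpt φ t).ofConv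
      rw [toConv_ofConv, toConv_ofConv] at e
      rw [e]
      refine (wt_commute_inSpan φ hV b hmV).mul_right ?_
      rw [ev_tpt]
      refine Commute.sum_right _ _ _ fun a _ => Commute.smul_right ?_ _
      show _ * _ = _ * _
      rw [← Matrix.map_mul, ← Matrix.map_mul, wt_mul φ (isRep_cL hc), wt_mul φ (isRep_cL hc)]
      by_cases hab : b = a
      · subst hab; rfl
      · rw [if_neg hab, if_neg (Ne.symm hab)]
    rw [hX, show (W b).map (algebraMap L R) = ((W b).map (algebraMap L AL)).map cst from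
      Matrix.ext fun i l => IsScalarTower.algebraMap_apply L AL R _] at h1
    -- extract a coefficient
    have ht : ∀ a', t (mono L a') = MonoidAlgebra.single a' (1 : AL) := fun a' => by
      show tMap (L := L) _ (mono L a') = _
      rw [tMap_mono]; rfl
    have hex : ∀ Z : Cyc p (n + 1) → Matrix ι ι AL, ∀ i l,
        ((∑ a' ∈ wtSupp φ (cL L c), t (mono L a') • (Z a').map cst : Matrix ι ι R) i l).coeff a =
          if a ∈ wtSupp φ (cL L c) then Z a i l else 0 := by
      intro Z i l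
      rw [Matrix.sum_apply]
      rw [MonoidAlgebra.coeff_sum, Finset.sum_apply']
      have hterm : ∀ a', ((t (mono L a') • (Z a').map cst : Matrix ι ι R) i l).coeff a = if a' = a then Z a' i l else 0 := by
        intro a'
        rw [Matrix.smul_apply, Matrix.map_apply, ht, smul_eq_mul]
        show (MonoidAlgebra.single a' (1 : AL) * algebraMap AL R (Z a' i l)).coeff a = _
        rw [MonoidAlgebra.coe_algebraMap]
        simp only [Algebra.algebraMap_self, RingHom.coe_id, Function.comp_apply, id_eq]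
        erw [MonoidAlgebra.single_mul_single]
        rw [MonoidAlgebra.coeff_single, Finsupp.single_apply, _root_.mul_one, _root_.one_mul]
      simp only [hterm]
      rw [Finset.sum_ite_eq']
    rw [commute_iff_eq, Finset.mul_sum, Finset.sum_mul] at h1
    simp only [mul_smul_comm, smul_mul_assoc, ← Matrix.map_mul] at h1
    by_cases ha : a ∈ wtSupp φ (cL L c)
    · ext i l
      have h2 := congrArg (fun Y : Matrix ι ι R => (Y i l).coeff a) h1
      simp only [hex fun a' => (W b).map (algebraMap L AL) * Wt a',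
        hex fun a' => Wt a' * (W b).map (algebraMap L AL), if_pos ha] at h2
      exact h2
    · rw [show Wt a = 0 by simp [hWt, hW, wt_eq_zero φ a ha]]
      exact Commute.zero_right _
  -- the idempotents agree
  have hP : IsIdempotentElem ((W a).map (algebraMap L AL)) := by
    show _ * _ = _
    rw [← Matrix.map_mul, hW, wt_mul φ (isRep_cL hc), if_pos rfl]
  have hQ : IsIdempotentElem (Wt a) := by
    show G * _ * G' * (G * _ * G') = _
    calc G * (W a).map (algebraMap L AL) * G' * (G * (W a).map (algebraMap L AL) * G')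
        = G * ((W a).map (algebraMap L AL) * (G' * G) * (W a).map (algebraMap L AL)) * G' := by noncomm_ring
      _ = _ := by rw [hGG.2, _root_.mul_one, hP.eq]
  have he : ((W a).map (algebraMap L AL)).map (aug L AL : AL →+* L) = (Wt a).map (aug L AL : AL →+* L) := by
    have hG1 : G.map (aug L AL : AL →+* L) = 1 := by
      ext i l
      rw [Matrix.one_apply]
      exact (isRep_cL (L := L) hc).counit i l
    have hG'1 : G'.map (aug L AL : AL →+* L) = 1 := by
      have h := congrArg (fun Y : Matrix ι ι AL => Y.map (aug L AL : AL →+* L)) hGG.1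
      simp only [Matrix.map_mul, Matrix.map_one _ (map_zero _) (map_one _), hG1, _root_.one_mul] at h
      exact h
    simp only [hWt, Matrix.map_mul, hG1, hG'1, _root_.one_mul, _root_.mul_one]
  have hEq := eq_of_commute_idem (aug L AL : AL →+* L) hP hQ (hcomm a a) he
  show G * (W a).map (algebraMap L AL) = (W a).map (algebraMap L AL) * G
  conv_rhs => rw [hEq, hWt]
  rw [_root_.mul_assoc, hGG.2, _root_.mul_one]

end Groth.Agent.Torus37
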