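import Groth.Agent.Torus37.Stab
import Groth.Agent.Torus37.Quot
import Groth.Agent.Comod33.Socle
import Groth.Agent.Comod33.IdentityComp
import Groth.Agent.Comod33.Units
import Groth.Agent.AlgGrp79.SepPoint
import Groth.Agent.E4O.DimField
import Mathlib.RingTheory.KrullDimension.NonZeroDivisors
import Mathlib.RingTheory.Localization.Away.Basic
import Mathlib.RingTheory.Etale.Basic

/-!
A noncentral semisimple element of the Lie algebra gives a smaller smooth connected subgroup which is not unipotent.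
-/

set_option autoImplicit false
set_option linter.unusedSectionVars false
set_option linter.style.haveILetI false

universe u

open scoped TensorProduct
open WithConv TensorProduct Groth.Agent.Dyn50

noncomputable section

namespace Groth.Agent.Torus37

variable {k : Type u} [Field k] {A : Type u} [CommRing A] [HopfAlgebra k A]
variable {ι : Type} [Fintype ι] [DecidableEq ι] {c : ι → ι → A}

theorem IsDer.map_one {δ : A →ₗ[k] k} (h : IsDer δ) : δ 1 = 0 := by
  have h' := h 1 1
  rwa [_root_.map_one, one_smul, _root_.mul_one, right_eq_add] at h'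

/-- The Lie algebra of a unipotent group consists of nilpotent matrices. -/
theorem isNilpotent_mat_of_isUnipotent (hU : HopfRep.IsUnipotent k A) (hc : Comod33.Mat.IsRep (k := k) c)
    {δ : A →ₗ[k] k} (hδ : IsDer δ) : IsNilpotent (mat c δ) := by
  classical
  have hop : ∀ a : A, dOp δ a = Comod33.dact (A := A) (V := A) δ a := fun a => rfl
  have hsoc : ∀ n a, a ∈ Comod33.soc k A A n → (dOp δ ^ n) a = 0 := by
    intro n
    induction n with
    | zero => intro a ha; simpa [Comod33.soc] using ha
    | succ n ih =>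
      intro a ha
      rw [pow_succ, Module.End.mul_apply, hop]
      exact ih _ (Comod33.mem_soc_succ_iff.1 ha _ hδ.map_one)
  have hex : ∀ q : ι × ι, ∃ n, c q.1 q.2 ∈ Comod33.soc k A A n := fun q =>
    (Submodule.mem_iSup_of_directed _ Comod33.soc_mono.directed_le).1
      (Comod33.iSup_soc_eq_top hU A ▸ Submodule.mem_top)
  choose m hm using hex
  refine ⟨Finset.univ.sup m, ?_⟩
  ext i j
  have h0 := hsoc _ _ (Comod33.soc_mono (Finset.le_sup (f := m) (Finset.mem_univ (i, j))) (hm (i, j)))
  have h1 := congrArg (aug k A) h0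
  rw [dOp_pow_rep hc, map_sum, map_zero] at h1
  have h2 : ∀ l, aug k A (c i l) = if i = l then 1 else 0 := fun l => hc.counit i l
  simp only [map_smul, h2] at h1
  simpa using h1

theorem der_idem {δ : A →ₗ[k] k} (h : IsDer δ) {f : A} (hf : IsIdempotentElem f) : δ f = 0 := by
  have h1 := h f f
  rw [hf.eq, smul_eq_mul] at h1
  rcases IsIdempotentElem.iff_eq_zero_or_one.1 (hf.map (aug k A)) with e | e
  · rw [e] at h1; simpa using h1
  · rw [e, _root_.one_mul, right_eq_add] at h1; exact h1

/-- The Lie algebra bracket with a matrix commuting with the group vanishes. -/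
theorem adM_eq_zero_of_commute (hc : Comod33.Mat.IsRep (k := k) c) {D : Matrix ι ι k}
    (h : gen c * D.map (algebraMap k A) = D.map (algebraMap k A) * gen c) {Y : Matrix ι ι k} (hY : Y ∈ lie k c) :
    adM D Y = 0 := by
  obtain ⟨δ, -, rfl⟩ := (mem_lie_iff Y).1 hY
  have h1 := congrArg (fun X : Matrix ι ι A => X.map δ) h
  simp only [(map_mul_const (gen c) D δ).1, (map_mul_const (gen c) D δ).2] at h1
  rw [adM_apply, sub_eq_zero]
  exact h1.symm

/-- Krull dimension as a natural number. -/
def dimA (k A : Type u) [CommRing k] [CommRing A] [Algebra k A] : ℕ := Cardinal.toNat (Algebra.trdeg k A)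

theorem dimA_lt_of_surjective {C : Type u} [CommRing C] [Algebra k C] [IsDomain A] [IsDomain C]
    [Algebra.FiniteType k A] [Algebra.FiniteType k C] (π : A →ₐ[k] C) (hπ : Function.Surjective π) {r : A}
    (hr : r ≠ 0) (hπr : π r = 0) : dimA k C < dimA k A := by
  let π' : A ⧸ Ideal.span {r} →+* C := Ideal.Quotient.lift _ (π : A →+* C) fun a ha => by
    obtain ⟨b, rfl⟩ := Ideal.mem_span_singleton'.1 ha
    show π (b * r) = 0
    rw [map_mul, hπr, mul_zero]
  have h1 : ringKrullDim C ≤ ringKrullDim (A ⧸ Ideal.span {r}) :=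
    ringKrullDim_le_of_surjective π' (Ideal.Quotient.lift_surjective_of_surjective _ _ hπ)
  have h2 : ringKrullDim (A ⧸ Ideal.span {r}) + 1 ≤ ringKrullDim A :=
    ringKrullDim_quotient_succ_le_of_nonZeroDivisor (mem_nonZeroDivisors_of_ne_zero hr)
  have h3 : ringKrullDim C + 1 ≤ ringKrullDim A := (add_le_add h1 le_rfl).trans h2
  rw [E4O.ringKrullDim_eq_trdeg k C, E4O.ringKrullDim_eq_trdeg k A] at h3
  norm_cast at h3

theorem dimA_le_of_injective {C : Type u} [CommRing C] [Algebra k C] [IsDomain A] [IsDomain C]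
    [Algebra.FiniteType k A] [Algebra.FiniteType k C] (j : C →ₐ[k] A) (hj : Function.Injective j) :
    dimA k C ≤ dimA k A := by
  refine Cardinal.toNat_le_toNat (trdeg_le_of_injective j hj) ?_
  obtain ⟨n, f, hf⟩ := Algebra.FiniteType.iff_quotient_mvPolynomial''.1 ‹Algebra.FiniteType k A›
  exact lt_of_le_of_lt (trdeg_le_of_surjective f hf) (by rw [MvPolynomial.trdeg_of_isDomain]; simp)

/-- The subgroup. -/
theorem exists_smaller {L : Type u} [Field L] [Algebra k L] [IsAlgClosed L] (hA : Good k L A)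
    (hc : Comod33.Mat.IsRep (k := k) c) {X : Matrix ι ι k} {q : ℕ} (hq : Fintype.card ι ≤ q)
    (hD : X ^ q ∈ lie k c) (hs : Sep (X ^ q)) (hnc : ∃ Y ∈ lie k c, adM (X ^ q) Y ≠ 0) :
    ∃ (C : Type u) (_ : CommRing C) (_ : HopfAlgebra k C) (π : A →ₐc[k] C), Function.Surjective π ∧ Good k L C ∧
      dimA k C < dimA k A ∧ ¬ HopfRep.IsUnipotent k C := by
  classical
  haveI := hA.smooth
  haveI := hA.finiteType
  haveI := hA.isDomain
  let J := stabIdeal c (X ^ q)
  haveI : J.IsHopfIdeal k := isHopfIdeal_stabIdeal hc (X ^ q)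
  obtain ⟨r, hrJ, hr⟩ : ∃ r ∈ J, r ≠ 0 := by
    by_contra h
    push Not at h
    obtain ⟨Y, hY, hne⟩ := hnc
    refine hne (adM_eq_zero_of_commute hc ?_ hY)
    exact (kills_stabIdeal_iff (AlgHom.id k A) (X ^ q)).1 fun a ha => h a ha
  let B := A ⧸ J
  haveI : Algebra.Smooth k B := smooth_stab hc hD hs
  haveI : IsNoetherianRing B := Algebra.FiniteType.isNoetherianRing k B
  obtain ⟨e, he, hεe, hmin, hHopf⟩ := Comod33.IdComp.exists_idem k B
  let I : Ideal B := Ideal.span {1 - e}
  haveI : I.IsHopfIdeal k := hHopf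
  let C := B ⧸ I
  let π : A →ₐc[k] C := (Bialgebra.Quotient.mkBialgHom I).comp (Bialgebra.Quotient.mkBialgHom J)
  have hπ : Function.Surjective π := Ideal.Quotient.mk_surjective.comp Ideal.Quotient.mk_surjective
  haveI : IsLocalization.Away e C :=
    IsLocalization.away_of_isIdempotentElem he Ideal.mk_ker Ideal.Quotient.mk_surjective
  haveI : Algebra.Smooth B C := Algebra.Smooth.of_isLocalization_Away e
  haveI : Algebra.Smooth k C := Algebra.Smooth.comp k B C
  haveI : Algebra.FiniteType k C := inferInstance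
  have hconn : ∀ x : C, IsIdempotentElem x → x = 0 ∨ x = 1 := by
    intro x hx
    obtain ⟨h, rfl⟩ := Ideal.Quotient.mk_surjective x
    obtain ⟨a, ha⟩ := Ideal.mem_span_singleton'.1 (Ideal.Quotient.eq.1 ((map_mul _ h h).trans hx.eq))
    have hi : IsIdempotentElem (h * e) := by
      show h * e * (h * e) = h * e
      linear_combination (-e ^ 2) * ha + (h - a * e) * he.eq
    have he1 : Ideal.Quotient.mk I e = 1 :=
      (Ideal.Quotient.eq.2 (Ideal.mem_span_singleton'.2 ⟨-1, by ring⟩)).trans (map_one _)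
    rcases IsIdempotentElem.iff_eq_zero_or_one.1 (hi.map (Bialgebra.counitAlgHom k B)) with h0 | h1
    · left
      have h2 := hmin _ hi.one_sub (show Bialgebra.counitAlgHom k B (1 - h * e) = 1 by
        rw [map_sub, map_one, h0, sub_zero])
      have h3 : h * e = 0 := by linear_combination (-1 : B) * h2 - h * he.eq
      rw [← _root_.mul_one (Ideal.Quotient.mk I h), ← he1, ← map_mul, h3, map_zero]
    · right
      have h2 := hmin _ hi h1
      have h3 : h * e = e := by linear_combination h2 - h * he.eq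
      rw [← _root_.mul_one (Ideal.Quotient.mk I h), ← he1, ← map_mul, h3]
  have hdom : IsDomain (L ⊗[k] C) := by
    haveI : _root_.IsReduced (L ⊗[k] C) := AlgGrp79.isReduced_of_smooth_field L (L ⊗[k] C)
    haveI : IsNoetherianRing C := Algebra.FiniteType.isNoetherianRing k C
    let εC := Bialgebra.counitAlgHom k C
    let εL : L ⊗[k] C →ₐ[k] L :=
      (Algebra.TensorProduct.rid k k L).toAlgHom.comp (Algebra.TensorProduct.map (AlgHom.id k L) εC)
    refine Comod33.Units.isDomain L (A := L ⊗[k] C) fun x hx => ?_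
    rcases IsIdempotentElem.iff_eq_zero_or_one.1 (hx.map εL) with h | h
    · exact Or.inl (Comod33.IdComp.idem_eq_zero hconn εC hx h)
    · refine Or.inr (sub_eq_zero.1 (Comod33.IdComp.idem_eq_zero hconn εC hx.one_sub ?_)).symm
      show εL (1 - x) = 0
      rw [map_sub, h]
      exact sub_eq_zero.2 εL.toRingHom.map_one
  have hgood : Good k L C := ⟨inferInstance, hdom⟩
  haveI := hgood.isDomain
  refine ⟨C, inferInstance, inferInstance, π, hπ, hgood,
    dimA_lt_of_surjective (π : A →ₐ[k] C) hπ hr ?_, fun hU => ?_⟩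
  · show Ideal.Quotient.mk I (Ideal.Quotient.mk J r) = 0
    rw [Ideal.Quotient.eq_zero_iff_mem.2 hrJ, map_zero]
  obtain ⟨δ, hδ, hδD⟩ := (mem_lie_iff _).1 hD
  have hkJ : ∀ a ∈ J, δ a = 0 := fun a ha =>
    der_stabIdeal_eq_zero hc hδ (by rw [hδD]) a ha
  let δB : B →ₗ[k] k := (J.restrictScalars k).liftQ δ hkJ ∘ₗ (Submodule.Quotient.restrictScalarsEquiv k J).symm.toLinearMap
  have hδB : ∀ a, δB (Ideal.Quotient.mk J a) = δ a := fun a => rfl
  have hδBd : IsDer δB := fun x y => by
    obtain ⟨a, rfl⟩ := Ideal.Quotient.mk_surjective x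
    obtain ⟨b, rfl⟩ := Ideal.Quotient.mk_surjective y
    rw [← map_mul, hδB, hδB, hδB, hδ a b]
    rfl
  have hkI : ∀ a ∈ I, δB a = 0 := fun a ha => by
    obtain ⟨b, rfl⟩ := Ideal.mem_span_singleton'.1 ha
    rw [hδBd, der_idem hδBd he.one_sub, show aug k B (1 - e) = 0 from by
      rw [map_sub, map_one]; exact sub_eq_zero.2 hεe.symm, smul_zero, zero_smul, add_zero]
  let δC : C →ₗ[k] k := (I.restrictScalars k).liftQ δB hkI ∘ₗ (Submodule.Quotient.restrictScalarsEquiv k I).symm.toLinearMap
  have hδC : ∀ a, δC (Ideal.Quotient.mk I a) = δB a := fun a => rfl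
  have hδCd : IsDer δC := fun x y => by
    obtain ⟨a, rfl⟩ := Ideal.Quotient.mk_surjective x
    obtain ⟨b, rfl⟩ := Ideal.Quotient.mk_surjective y
    rw [← map_mul, hδC, hδC, hδC, hδBd a b]
    rfl
  have hcC : Comod33.Mat.IsRep (k := k) (fun i j => π (c i j)) :=
    ⟨fun i j => by
      show CoalgebraStruct.comul (R := k) (π (c i j)) = _
      rw [← CoalgHomClass.map_comp_comul_apply π, hc.comul, map_sum]
      rfl,
    fun i j => by
      show CoalgebraStruct.counit (R := k) (π (c i j)) = _
      rw [CoalgHomClass.counit_comp_apply, hc.counit]⟩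
  obtain ⟨m, hm⟩ := isNilpotent_mat_of_isUnipotent hU hcC hδCd
  rw [show mat (fun i j => π (c i j)) δC = X ^ q from hδD, ← pow_mul] at hm
  have h0 : X ^ q = 0 := by
    refine pow_eq_zero_of_le hq ?_
    have hn : Matrix.toLin' X ^ (q * m + Fintype.card ι) = 0 := by
      rw [pow_add, ← Matrix.toLin'_pow, hm, map_zero, zero_mul]
    have h := Matrix.toLin'.injective (a₁ := X ^ Fintype.card ι) (a₂ := 0)
    refine h ?_
    rw [Matrix.toLin'_pow, map_zero]
    rw [← LinearMap.ker_eq_top] at hn ⊢
    rw [← hn, ← Module.finrank_fintype_fun_eq_card k (η := ι),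
      Module.End.ker_pow_eq_ker_pow_finrank_of_le (Nat.le_add_left _ _)]
  obtain ⟨Y, -, hne⟩ := hnc
  exact hne (by rw [h0, adM_apply, zero_mul, mul_zero, sub_zero])

end Groth.Agent.Torus37
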